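import Groth.Agent.CurveDualLib.Deg
import Groth.Agent.S10993
import Groth.Agent.GenusZeroLib.Degrees

/-!
# The function field of a smooth proper curve over any field of constants
-/

set_option autoImplicit false
set_option linter.style.haveILetI false
set_option linter.unusedSectionVars false
universe u

open CategoryTheory CategoryTheory.Limits AlgebraicGeometry TopologicalSpace Opposite
open DevissLib DetDegLib WithZero IsLocalRing
open scoped IntermediateField

noncomputable section

namespace CurveDualLib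

variable {k : Type u} [Field k] {X : Scheme.{u}} [X.Over (Spec (CommRingCat.of k))] [IsIntegral X]
  [Smooth (X ↘ Spec (CommRingCat.of k))] [IsProper (X ↘ Spec (CommRingCat.of k))]
  (hdim : topologicalKrullDim X = 1)

attribute [local instance] algFF

include hdim in
/-- The functions without poles are the global ones. -/
theorem finrank_h0_structure_eq_ell :
    Module.finrank k (Coh.HH X (Coh.structureModule X) 0) = FunFld.ell (0 : FunFld.Divisor k X.functionField) := by
  have hg : ∀ x : X, IsGen (Coh.structureModule X) x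
      (gm (Coh.structureModule X) x (show x ∈ (⊤ : X.Opens) from trivial) (1 : Γ(X, ⊤))) := fun x =>
    (AmpleLib.one_genOn (⊤ : X.Opens)).genAt trivial
  refine finrank_h0_eq_ell hdim CurvLib.isInvertible_structureModule (hg (genericPoint X))
    fun x hx => ⟨_, hg x, 1, one_ne_zero, ?_, ?_⟩
  · rw [sp_gm]
    exact (one_smul (X.presheaf.stalk (genericPoint X)) _).symm
  · simp [FunFld.Place.ord]

include hdim in
/-- With no new global functions, the constants are algebraically closed in the function field. -/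
theorem isFunctionField' (h0 : Module.finrank k (Coh.HH X (Coh.structureModule X) 0) = 1) :
    FunFld.IsFunctionField k X.functionField := by
  obtain ⟨t, ht⟩ := CurveFFLib.exists_separating (k := k) hdim
  haveI := ht
  obtain ⟨s, hs, hs'⟩ := CurveFFLib.trdeg_functionField (k := k) (X := X)
  obtain rfl : s = 1 := by
    rw [hdim] at hs
    exact_mod_cast hs.symm
  haveI : Algebra.EssFiniteType k X.functionField := by
    haveI : JacobsonSpace X := LocallyOfFiniteType.jacobsonSpace (X ↘ Spec (CommRingCat.of k))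
    obtain ⟨x, -, hx⟩ := nonempty_inter_closedPoints (X := X) (Z := Set.univ) Set.univ_nonempty
      isClosed_univ.isLocallyClosed
    rw [mem_closedPoints_iff] at hx
    letI : Algebra k (X.presheaf.stalk x) := Curv2.stalkAlgebra k X x
    haveI := (HurwitzLib.exists_smooth_data (k := k) hdim hx).1
    haveI : IsScalarTower k (X.presheaf.stalk x) X.functionField :=
      IsScalarTower.of_algebraMap_eq fun c => (algebraMap_stalk x c).symm
    haveI : Algebra.EssFiniteType (X.presheaf.stalk x) X.functionField :=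
      Algebra.EssFiniteType.of_isLocalization _ (nonZeroDivisors (X.presheaf.stalk x))
    exact Algebra.EssFiniteType.comp k (X.presheaf.stalk x) _
  have htr : Transcendental k t := by
    intro hta
    haveI : Algebra.IsAlgebraic k k⟮t⟯ := IntermediateField.isAlgebraic_adjoin_simple hta.isIntegral
    haveI : Algebra.IsAlgebraic k X.functionField := Algebra.IsAlgebraic.trans k k⟮t⟯ _
    rw [trdeg_eq_zero] at hs'
    simp at hs'
  refine ⟨⟨t, htr, ?_⟩, fun y hy => ?_⟩
  · haveI hess : Algebra.EssFiniteType k⟮t⟯ X.functionField := Algebra.EssFiniteType.of_comp k _ _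
    haveI : Algebra.IsAlgebraic k⟮t⟯ X.functionField := inferInstance
    obtain ⟨S, hS⟩ := (IntermediateField.fg_top_iff.2 hess : (⊤ : IntermediateField k⟮t⟯ X.functionField).FG)
    haveI : FiniteDimensional k⟮t⟯ (IntermediateField.adjoin k⟮t⟯ (S : Set X.functionField)) :=
      IntermediateField.finiteDimensional_adjoin fun x _ => (Algebra.IsAlgebraic.isAlgebraic x).isIntegral
    exact Module.Finite.of_surjective (IntermediateField.adjoin k⟮t⟯
      (S : Set X.functionField)).val.toLinearMap fun x => ⟨⟨x, hS ▸ IntermediateField.mem_top⟩, rfl⟩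
  · have hmem : y ∈ FunFld.L (0 : FunFld.Divisor k X.functionField) := fun P => by
      rw [Finsupp.zero_apply, exp_zero]
      obtain ⟨p, hp, hpy⟩ := hy.isIntegral
      by_contra hne
      push Not at hne
      have h : p.eval₂ (algebraMap k X.functionField) y = 0 := hpy
      rw [Polynomial.eval₂_eq_sum_range, Finset.sum_range_succ, hp.coeff_natDegree, map_one, one_mul] at h
      have hlt : P.1 (∑ i ∈ Finset.range p.natDegree, algebraMap k X.functionField (p.coeff i) * y ^ i) <
          P.1 (y ^ p.natDegree) := by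
        refine P.1.map_sum_lt (by rw [map_pow]; exact pow_ne_zero _ (ne_of_gt (lt_trans zero_lt_one hne))) fun i hi => ?_
        rw [map_mul, map_pow, map_pow]
        exact (mul_le_of_le_one_left' (P.2.1 _)).trans_lt (pow_lt_pow_right₀ hne (Finset.mem_range.1 hi))
      have h2 := P.1.map_add_eq_of_lt_right hlt
      rw [h, map_zero] at h2
      exact absurd (h2.trans (map_pow _ _ _)) (ne_of_lt (pow_pos (lt_trans zero_lt_one hne) _))
    have h1 : FunFld.ell (0 : FunFld.Divisor k X.functionField) = 1 := (finrank_h0_structure_eq_ell hdim).symm.trans h0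
    rw [FunFld.ell] at h1
    have hone : (1 : X.functionField) ∈ FunFld.L (0 : FunFld.Divisor k X.functionField) := fun P => by
      rw [Finsupp.zero_apply, exp_zero, map_one]
    obtain ⟨c, hc⟩ := exists_smul_eq_of_finrank_eq_one h1
      (x := (⟨1, hone⟩ : FunFld.L (0 : FunFld.Divisor k X.functionField)))
      (fun h => one_ne_zero (congrArg Subtype.val h)) ⟨y, hmem⟩
    exact ⟨c, (Algebra.algebraMap_eq_smul_one c).trans (congrArg Subtype.val hc)⟩

/-- The residue field of a closed point is that of its place. -/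
theorem resDeg_toNat {x : X} (hx : IsClosed ({x} : Set X)) :
    letI : Algebra k (X.presheaf.stalk x) := Curv2.stalkAlgebra k X x
    ((DetDegLib.resDeg k (X.presheaf.stalk x)).toNat : ℤ) = ((ptPlace (k := k) hdim hx).deg : ℤ) := by
  letI : Algebra k (X.presheaf.stalk x) := Curv2.stalkAlgebra k X x
  haveI := HurwitzLib.finite_residueField (k := k) hx
  let P := ptPlace (k := k) hdim hx
  let φ : X.presheaf.stalk x ≃+* P.O := RingEquiv.ofBijective
    ((toFF x).codRestrict P.O.toSubring fun b => (ptVal_le_one_iff (k := k) hdim hx _).2 ⟨b, rfl⟩)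
    ⟨fun a b h => toFF_injective x (congrArg Subtype.val h), fun z => by
      obtain ⟨b, hb⟩ := (ptVal_le_one_iff (k := k) hdim hx z.1).1 z.2
      exact ⟨b, Subtype.ext hb⟩⟩
  let ψ : X.residueField x ≃+* ResidueField P.O := ResidueField.mapEquiv φ
  letI := Curv2.resAlgebra k X x
  let e : (X.presheaf.stalk x ⧸ maximalIdeal (X.presheaf.stalk x)) ≃ₗ[k] ResidueField P.O :=
    { ψ.toAddEquiv with
      map_smul' := fun c v => by
        obtain ⟨v, rfl⟩ := Ideal.Quotient.mk_surjective v
        show ψ (residue (X.presheaf.stalk x) (c • v)) = c • ψ (residue (X.presheaf.stalk x) v)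
        rw [Algebra.smul_def, Algebra.smul_def, map_mul]
        refine (map_mul ψ _ _).trans (congrArg (· * ψ (residue (X.presheaf.stalk x) v)) ?_)
        show residue P.O (φ (Curv2.stalkMap k X x c)) = residue P.O (algebraMap k P.O c)
        exact congrArg _ (Subtype.ext (algebraMap_stalk x c)) }
  haveI : Module.Finite k (ResidueField P.O) := by
    haveI : Module.Finite k (X.presheaf.stalk x ⧸ maximalIdeal (X.presheaf.stalk x)) :=
      Module.Finite.equiv ({ (RingEquiv.refl (X.residueField x)).toAddEquiv with map_smul' := fun _ _ => rfl } :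
        X.residueField x ≃ₗ[k] (X.presheaf.stalk x ⧸ maximalIdeal (X.presheaf.stalk x)))
    exact Module.Finite.equiv e
  rw [DetDegLib.resDeg, e.length_eq, Module.length_eq_finrank, FunFld.Place.deg]
  rfl

variable {L : X.Modules} (hL : PicF.IsInvertible L)

include hL in
/-- The degree of a line bundle is the degree of its divisor, over any field of constants. -/
theorem deg_eq_deg' (h0 : Module.finrank k (Coh.HH X (Coh.structureModule X) 0) = 1) {σ : Gst L} (hσ : IsGen L (genericPoint X) σ) {D : FunFld.Divisor k X.functionField}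
    (hD : IsDiv hdim L σ D) : Curv2.deg k X L 1 = D.deg := by
  classical
  haveI : IsNoetherian X := CurvLib.isNoetherian k
  let η := genericPoint X
  have hLc := CurvLib.isCoh_of_isInvertible hL
  -- a section over an open with germ `σ`
  obtain ⟨U₀, hηU₀, e₀, he₀⟩ := exists_gm_eq L η σ
  obtain ⟨U₁, hηU₁, e₁, he₁⟩ := exists_genAt hL η
  obtain ⟨c, hc⟩ := (he₁ η hηU₁).2 σ
  have hc0 : c ≠ 0 := fun h => ne_zero_of_isGen hL hσ (by rw [← hc, h]; exact zero_smul _ _)
  obtain ⟨V₁, hηV₁, r, hr⟩ := TopCat.Presheaf.exists_germ_eq X.presheaf (x := η) c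
  let U : X.Opens := U₀ ⊓ (U₁ ⊓ X.basicOpen r)
  have hηU : η ∈ U := ⟨hηU₀, hηU₁, (Scheme.mem_basicOpen X r _ hηV₁).2
    (hr ▸ (Ne.isUnit (G₀ := X.functionField) hc0))⟩
  let e : Γ(L, U) := L.presheaf.map (homOfLE (inf_le_left : U ≤ U₀)).op e₀
  have heη : gm L η hηU e = σ := (gm_map L (inf_le_left : U ≤ U₀) η hηU e₀).trans he₀
  have hframe : ∀ (x : X) (hx : x ∈ U), IsGen L x (gm L x hx e) := by
    intro x hx
    obtain ⟨hx₀, hx₁, hxr⟩ := hx
    have hxV : x ∈ V₁ := X.basicOpen_le r hxr
    have hu : IsUnit (X.presheaf.germ V₁ x hxV r) := (Scheme.mem_basicOpen X r _ hxV).1 hxr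
    have hxU' : x ∈ U := ⟨hx₀, hx₁, hxr⟩
    have : gm L x hxU' e = X.presheaf.germ V₁ x hxV r • gm L x hx₁ e₁ := by
      refine sp_injective hL x ?_
      rw [sp_gm, sp_smul, sp_gm, toFF_germ]
      exact heη.trans (hc.symm.trans (by rw [← hr]))
    rw [this]
    exact isGen_unit_smul (he₁ x hx₁) hu
  have hTd : topologicalKrullDim ↥((U : Set X)ᶜ) ≤ 0 :=
    CurvLib.topologicalKrullDim_le_zero_of_lt hdim U.isOpen.isClosed_compl
      fun h => (h.ge (Set.mem_univ η)) hηU
  obtain ⟨hT, hTc⟩ := CurvLib.finite_isClosed_of_dim_le_zero U.isOpen.isClosed_compl hTd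
  -- equations at the points outside
  have key : ∀ x : X, ∃ (f G : X.presheaf.stalk x) (b : (St x).obj L), x ∉ U → f ≠ 0 ∧ G ≠ 0 ∧ IsGen L x b ∧
      (∀ hx : IsClosed ({x} : Set X),
        (ptPlace (k := k) hdim hx).ord (toFF x G) - (ptPlace (k := k) hdim hx).ord (toFF x f) = D (ptPlace hdim hx)) ∧
      Function.Injective ((St x).map (eta U L)).hom ∧
      f • gm (Pu U L) x (show x ∈ (⊤ : X.Opens) from trivial) (eP e) = G • ((St x).map (eta U L)).hom b := by
    intro x
    by_cases hxU : x ∈ U
    · exact ⟨0, 0, 0, fun h => absurd hxU h⟩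
    have hx := hTc x hxU
    obtain ⟨V, hxV, eV, heV⟩ := exists_genAt hL x
    have hb := heV x hxV
    obtain ⟨g, hg0, hg⟩ := exists_coord hL hσ hb
    obtain ⟨G, f, hf, hGf⟩ := IsFractionRing.div_surjective (X.presheaf.stalk x) g
    have hf0 : f ≠ 0 := nonZeroDivisors.ne_zero hf
    have hf0' : toFF x f ≠ 0 := fun h => hf0 (toFF_injective x (h.trans (map_zero _).symm))
    have hG : toFF x G = g * toFF x f := (div_eq_iff hf0').1 hGf
    have hG0 : G ≠ 0 := fun h => by
      rw [h, map_zero] at hG
      exact mul_ne_zero hg0 hf0' hG.symm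
    refine ⟨f, G, gm L x hxV eV, fun _ => ⟨hf0, hG0, hb, fun hx' => ?_, ?_, ?_⟩⟩
    · rw [hG, Groth.Agent.FFLib.ord_mul _ hg0 hf0', IsDiv.spec hdim hL hD hx' hb hg0 hg]
      ring
    · intro a a' haa
      refine sp_injective hL x ?_
      have hnat : ∀ m, sp (Pu U L) x (((St x).map (eta U L)).hom m) =
          ((St η).map (eta U L)).hom (sp L x m) := fun m => by
        obtain ⟨W, hW, s, rfl⟩ := exists_gm_eq L x m
        rw [gm_app, sp_gm, sp_gm, gm_app]
      exact eta_injective_on hηU ((hnat a).symm.trans ((congrArg (sp (Pu U L) x) haa).trans (hnat a')))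
    · obtain ⟨W₁, hW₁, f', rfl⟩ := TopCat.Presheaf.exists_germ_eq X.presheaf (x := x) f
      obtain ⟨W₂, hW₂, G', rfl⟩ := TopCat.Presheaf.exists_germ_eq X.presheaf (x := x) G
      let W : X.Opens := (W₁ ⊓ W₂) ⊓ V
      have hxW : x ∈ W := ⟨⟨hW₁, hW₂⟩, hxV⟩
      have i₁ : W ≤ W₁ := fun y hy => hy.1.1
      have i₂ : W ≤ W₂ := fun y hy => hy.1.2
      have i₃ : W ≤ V := fun y hy => hy.2
      let z : Γ(L, W) := X.presheaf.map (homOfLE i₂).op G' • L.presheaf.map (homOfLE i₃).op eV
      have hz : gm L x hxW z = X.presheaf.germ W₂ x hW₂ G' • gm L x hxV eV := by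
        rw [gm_smul, gm_map L i₃ x hxW, TopCat.Presheaf.germ_res_apply]
      have hηW : η ∈ W ⊓ U := ⟨mem_of_nonempty hxW, hηU⟩
      have hrel := gm_rel (M := L) hxW (X.presheaf.map (homOfLE i₁).op f') e z (section_ext hL _ _ hηW (by
        rw [gm_smul, gm_map L (inf_le_right : W ⊓ U ≤ U) η hηW, gm_map L (inf_le_left : W ⊓ U ≤ W) η hηW, heη,
          TopCat.Presheaf.germ_res_apply, TopCat.Presheaf.germ_res_apply, ← toFF_germ hW₁, ← sp_gm L hxW z, hz,
          sp_smul, hg, smul_smul]
        congr 1
        exact (hG.trans (mul_comm _ _)).symm))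
      rw [TopCat.Presheaf.germ_res_apply, hz, map_smul] at hrel
      exact hrel
  choose f G b hkey using key
  have h := euler_frame k hdim.le hLc (n := 1) (U := U) (fun _ => e) hT hTd
    (fun x hx => (frameAt_one_iff e hx).2 (hframe x hx)) f (fun x => Matrix.of fun _ _ => G x)
    fun x hxU => by
      obtain ⟨hf, hG, hb, -, hinj, hrel⟩ := hkey x hxU
      refine ⟨fun _ => b x, ?_, mem_nonZeroDivisors_iff_ne_zero.2 hf, ?_, hinj, fun j => ?_⟩
      · have e1 : (fun c : Fin 1 → X.presheaf.stalk x => ∑ i, c i • b x) =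
            (fun c => c • b x) ∘ (Equiv.funUnique (Fin 1) (X.presheaf.stalk x)) :=
          funext fun c => by simp
        rw [e1]
        exact hb.comp (Equiv.bijective _)
      · rw [Matrix.det_unique]
        exact mem_nonZeroDivisors_iff_ne_zero.2 hG
      · simpa using hrel
  rw [Nat.cast_one, one_mul] at h
  rw [RRVanLib.euler_eq_deg hdim h0] at h
  have h' : Curv2.deg k X L 1 = ∑ x ∈ hT.toFinset, degTerm k x (G x) (f x) := by
    have hO := RRVanLib.euler_structure (k := k) hdim h0
    rw [hO] at h
    simp only [Matrix.det_unique, Matrix.of_apply, pow_one] at h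
    rw [← h]; ring
  rw [h', FunFld.Divisor.deg, Finsupp.sum]
  have hterm : ∀ (x : X) (hx : x ∉ U), degTerm k x (G x) (f x) =
      D (ptPlace hdim (hTc x hx)) * ((ptPlace (k := k) hdim (hTc x hx)).deg : ℤ) := fun x hx => by
    obtain ⟨hf, hG, -, hord, -, -⟩ := hkey x hx
    rw [← hord (hTc x hx), ord_toFF hdim _ hG, ord_toFF hdim _ hf, degTerm, resDeg_toNat hdim (hTc x hx), mul_comm]
  choose pt hpt hpP using exists_point (k := k) (X := X) hdim
  have hsub : ∀ P ∈ D.support, pt P ∉ U := fun P hP hU => by
    refine Finsupp.mem_support_iff.1 hP ?_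
    have := IsDiv.spec hdim hL hD (hpt P) (hframe _ hU) (one_ne_zero (α := X.functionField))
      (by rw [sp_gm, show ((1 : X.functionField) : X.presheaf.stalk η) = 1 from rfl, one_smul]; exact heη.symm)
    rw [hpP P] at this
    rw [← this, FunFld.Place.ord]
    simp
  symm
  have hne' : ∀ {P : FunFld.Place k X.functionField}, D P * (P.deg : ℤ) ≠ 0 → D P ≠ 0 := fun h h' => h (by rw [h', zero_mul])
  refine Finset.sum_bij_ne_zero (fun P _ _ => pt P) (fun P hP _ => hT.mem_toFinset.2 (hsub P hP))
    (fun P _ _ Q _ _ h => by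
      rw [← hpP P, ← hpP Q]
      congr 1) (fun x hx hne => ?_) (fun P hP _ => ?_)
  · have hxU : x ∉ U := hT.mem_toFinset.1 hx
    rw [hterm x hxU] at hne
    exact ⟨ptPlace hdim (hTc x hxU), Finsupp.mem_support_iff.2 (hne' hne), hne,
      (ptPlace_injective hdim (hpt _) (hTc x hxU) (hpP _))⟩
  · rw [hterm _ (hsub P hP), hpP P]

include hdim in
/-- Line bundles of large degree. -/
theorem exists_large' (N : ℤ) : ∃ L : X.Modules, PicF.IsInvertible L ∧ N ≤ Curv2.deg k X L 1 := by
  haveI : JacobsonSpace X := LocallyOfFiniteType.jacobsonSpace (X ↘ Spec (CommRingCat.of k))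
  obtain ⟨x, -, hx⟩ := nonempty_inter_closedPoints (X := X) (Z := Set.univ) Set.univ_nonempty
    isClosed_univ.isLocallyClosed
  rw [mem_closedPoints_iff] at hx
  haveI := HurwitzLib.dvr_stalk_closed (k := k) hdim hx
  letI := Curv2.resAlgebra k X x
  obtain ⟨L, hL, s, hd, -, -⟩ := GenusZeroLib.exists_point_bundle (k := k) hdim hx
  haveI := HurwitzLib.finite_residueField (k := k) hx
  have hpos : 0 < Module.finrank k (X.residueField x) := Module.finrank_pos
  have hmul : ∀ n : ℕ, GenusZeroLib.Realised k (X := X) ((n : ℤ) * Module.finrank k (X.residueField x)) := by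
    intro n
    induction n with
    | zero => simpa using GenusZeroLib.realised_zero (k := k) (X := X)
    | succ n ih =>
      rw [Nat.cast_succ, add_mul, one_mul]
      exact GenusZeroLib.realised_add (k := k) (hdim := hdim) ih ⟨L, hL, hd⟩
  obtain ⟨M, hM, hMd⟩ := hmul N.toNat
  refine ⟨M, hM, ?_⟩
  rw [hMd]
  calc N ≤ (N.toNat : ℤ) * 1 := by omega
    _ ≤ _ := by gcongr; exact_mod_cast hpos


include hdim in
/-- The genus of the function field is the genus of the curve. -/
theorem genus_eq' (h0 : Module.finrank k (Coh.HH X (Coh.structureModule X) 0) = 1) :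
    FunFld.genus k X.functionField = Curv2.genus k X := by
  haveI := CurvLib.isNoetherian k (X := X)
  obtain ⟨L, hL, hdeg⟩ := exists_large' (k := k) hdim
    (2 * (Curv2.genus k X : ℤ) + 2 * (FunFld.genus k X.functionField : ℤ))
  obtain ⟨b, hb⟩ := exists_gen hL (genericPoint X)
  obtain ⟨D, hD⟩ := exists_isDiv (k := k) hdim hL hb
  have h1 := RRVanLib.subsingleton_h1 (k := k) hdim h0 hL (by omega)
  have h2 := CurvLib.euler_curve (k := k) hdim L
  rw [RRVanLib.euler_eq_deg hdim h0, finrank_h0_eq_ell hdim hL hb hD,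
    Module.finrank_zero_of_subsingleton (R := k) (M := Coh.HH X L 1)] at h2
  have hdD := deg_eq_deg' hdim hL h0 hb hD
  have h3 := Groth.Agent.S10993.result k X.functionField (isFunctionField' hdim h0) D (by omega)
  push_cast at h2
  omega

end CurveDualLib

end
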