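import Groth.Agent.S9370
import Groth.Agent.S9386
import Groth.Agent.OmegaAffLib.Universal

/-!
# The differentials commute with base change
-/

set_option autoImplicit false
universe u

open CategoryTheory CategoryTheory.Limits AlgebraicGeometry

noncomputable section

namespace CurveDualLib

theorem nonempty_omega_pullback {X S X' S' : Scheme.{u}} (f : X ⟶ S) (g : S' ⟶ S) (g' : X' ⟶ X) (f' : X' ⟶ S')
    [QuasiSeparated f] [QuasiSeparated f'] (hsq : IsPullback g' f' f g) :
    Nonempty ((Scheme.Modules.pullback g').obj (Omega.sheaf f) ≅ Omega.sheaf f') := by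
  obtain ⟨c, hc, -⟩ := Groth.Agent.S9370.result f f' g' g hsq.w.symm _ _ (OmegaAffLib.isUniversal_dOmega (f := f)) _ _
    (OmegaAffLib.isUniversal_dOmega (f := f'))
  haveI := Groth.Agent.S9386.result f g g' f' hsq _ _ (OmegaAffLib.isUniversal_dOmega (f := f)) _ _
    (OmegaAffLib.isUniversal_dOmega (f := f')) c hc
  exact ⟨asIso c⟩

end CurveDualLib

end
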