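import Groth.Agent.CurveDualLib.DualClosed
import Groth.Agent.CurveDualLib.BaseChange
import Groth.Agent.FibVALib.Curve
import Groth.Agent.PicPnLib.Rel
import Groth.Agent.PicPnLib.BaseChange
import Groth.Agent.MiscFlat6.InvDual

/-!
# Numerical Serre duality for smooth curves over any field
-/

set_option autoImplicit false
set_option linter.style.haveILetI false
set_option linter.unusedSectionVars false
universe u

open CategoryTheory CategoryTheory.Limits AlgebraicGeometry
open KFlatLib (pb)

noncomputable section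

namespace CurveDualLib

variable (k : Type u) [Field k] (X : Scheme.{u}) [X.Over (Spec (CommRingCat.of k))]
  [IsProper (X ↘ Spec (CommRingCat.of k))] [Smooth (X ↘ Spec (CommRingCat.of k))]
  [GeometricallyConnected (X ↘ Spec (CommRingCat.of k))] (hdim : topologicalKrullDim X = 1)

attribute [local instance] VeryAmpleLib.bcOver

/-- The base change to the algebraic closure. -/
structure BCData : Prop where
  gi : GeometricallyIntegral (X ↘ Spec (CommRingCat.of k))
  int : IsIntegral X
  proper : IsProper (Curv2.bc k X (AlgebraicClosure k) ↘ Spec (CommRingCat.of (AlgebraicClosure k)))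
  smooth : Smooth (Curv2.bc k X (AlgebraicClosure k) ↘ Spec (CommRingCat.of (AlgebraicClosure k)))
  int' : IsIntegral (Curv2.bc k X (AlgebraicClosure k))
  dim : topologicalKrullDim ↥(Curv2.bc k X (AlgebraicClosure k)) = 1

include hdim in
theorem bcData : BCData k X := by
  haveI hgi := FibVALib.geometricallyIntegral_of_geometricallyConnected (X ↘ Spec (CommRingCat.of k))
  haveI : IsIntegral X := GeometricallyIntegral.isIntegral_of_subsingleton (X ↘ Spec (CommRingCat.of k))
  haveI := VeryAmpleLib.isIntegral_bc k X (AlgebraicClosure k)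
  refine ⟨hgi, inferInstance, VeryAmpleLib.isProper_bc k X _, ?_, inferInstance,
    (VeryAmpleLib.dim_bc k X _).trans hdim⟩
  exact MorphismProperty.pullback_snd (X ↘ Spec (CommRingCat.of k)) _ inferInstance

include hdim in
theorem omega_invertible_field : PicF.IsInvertible (Omega.sheaf (X ↘ Spec (CommRingCat.of k))) := by
  haveI := (bcData k X hdim).gi
  let p := X ↘ Spec (CommRingCat.of k)
  refine isInvertible_omega p (irreducible_fibre p) fun s => ?_
  have hr : Set.range (p.fiberι s) = Set.univ := by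
    rw [Scheme.Hom.range_fiberι]
    exact Set.eq_univ_of_forall fun y => Subsingleton.elim (α := PrimeSpectrum k) _ _
  let ε : ↥(p.fiber s) ≃ₜ X := (p.fiberι s).isEmbedding.toHomeomorph.trans ((Homeomorph.setCongr hr).trans
    (Homeomorph.Set.univ X))
  exact (IsHomeomorph.topologicalKrullDim_eq _ ε.isHomeomorph).trans hdim

theorem nonempty_omega_bc :
    Nonempty (pb (Curv2.bcFst k X (AlgebraicClosure k)) (Omega.sheaf (X ↘ Spec (CommRingCat.of k))) ≅
      Omega.sheaf (Curv2.bc k X (AlgebraicClosure k) ↘ Spec (CommRingCat.of (AlgebraicClosure k)))) := by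
  haveI := VeryAmpleLib.isProper_bc k X (AlgebraicClosure k)
  exact nonempty_omega_pullback _ _ _ _ (VeryAmpleLib.isPullback_bc k X (AlgebraicClosure k))

/-- Cohomology over the algebraic closure. -/
theorem finrank_bc {F : X.Modules} (hF : PicF.IsInvertible F) {G : (Curv2.bc k X (AlgebraicClosure k)).Modules}
    (e : pb (Curv2.bcFst k X (AlgebraicClosure k)) F ≅ G) (i : ℕ) :
    Module.finrank k (Coh.HH X F i) = Module.finrank (AlgebraicClosure k) (Coh.HH _ G i) :=
  (HilbPolyLib.finrank_HH_bc (AlgebraicClosure k) (TwistLib.isQCoh_of_isInvertible hF) i).symm.trans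
    (CurvLib.hIso (k := AlgebraicClosure k) e i).finrank_eq

include hdim in
/-- The degree of the differentials is `2g - 2`. -/
theorem deg_omega : Curv2.deg k X (Omega.sheaf (X ↘ Spec (CommRingCat.of k))) 1 = 2 * (Curv2.genus k X : ℤ) - 2 := by
  obtain ⟨_, _, _, _, _, hd⟩ := bcData k X hdim
  obtain ⟨e⟩ := nonempty_omega_bc k X
  have hΩ := omega_invertible_field k X hdim
  rw [← VeryAmpleLib.genus_bc k X (AlgebraicClosure k), ← VeryAmpleLib.deg_bc k X (AlgebraicClosure k) hΩ,
    ← deg_omega_closed (k := AlgebraicClosure k) hd, Curv2.deg, Curv2.deg,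
    show Curv2.euler (AlgebraicClosure k) (Curv2.bc k X (AlgebraicClosure k)) _ = _ from
      CurvLib.euler_congr (k := AlgebraicClosure k) e]

include hdim in
theorem h0_omega : Module.finrank k (Coh.HH X (Omega.sheaf (X ↘ Spec (CommRingCat.of k))) 0) = Curv2.genus k X := by
  obtain ⟨_, _, _, _, _, hd⟩ := bcData k X hdim
  obtain ⟨e⟩ := nonempty_omega_bc k X
  rw [← VeryAmpleLib.genus_bc k X (AlgebraicClosure k), finrank_bc k X (omega_invertible_field k X hdim) e,
    h0_omega_closed hd]

include hdim in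
theorem h1_omega : Module.finrank k (Coh.HH X (Omega.sheaf (X ↘ Spec (CommRingCat.of k))) 1) = 1 := by
  obtain ⟨_, _, _, _, _, hd⟩ := bcData k X hdim
  obtain ⟨e⟩ := nonempty_omega_bc k X
  rw [finrank_bc k X (omega_invertible_field k X hdim) e, h1_omega_closed hd]

include hdim in
/-- Serre duality, numerically. -/
theorem h1_eq_h0 {L M : X.Modules} (hL : PicF.IsInvertible L) (hM : PicF.IsInvertible M)
    (e : CohB1.tensorMod L M ≅ Omega.sheaf (X ↘ Spec (CommRingCat.of k))) :
    Module.finrank k (Coh.HH X L 1) = Module.finrank k (Coh.HH X M 0) := by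
  obtain ⟨_, _, _, _, _, hd⟩ := bcData k X hdim
  obtain ⟨eΩ⟩ := nonempty_omega_bc k X
  let π := Curv2.bcFst k X (AlgebraicClosure k)
  rw [finrank_bc k X hL (Iso.refl _), finrank_bc k X hM (Iso.refl _)]
  exact h1_eq_h0_closed hd (AmpleDevLib.isInvertible_pb π hL) (AmpleDevLib.isInvertible_pb π hM)
    ((PicPnLib.pullTens π L M).symm ≪≫ (Scheme.Modules.pullback π).mapIso e ≪≫ eΩ)

include hdim in
/-- Degree `2g - 2` and `g` sections characterise the differentials. -/
theorem nonempty_iso_omega {L : X.Modules} (hL : PicF.IsInvertible L)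
    (hdeg : Curv2.deg k X L 1 = 2 * (Curv2.genus k X : ℤ) - 2)
    (hh0 : Curv2.genus k X ≤ Module.finrank k (Coh.HH X L 0)) :
    Nonempty (L ≅ Omega.sheaf (X ↘ Spec (CommRingCat.of k))) := by
  haveI := (bcData k X hdim).gi
  haveI := (bcData k X hdim).int
  let Ω := Omega.sheaf (X ↘ Spec (CommRingCat.of k))
  have hΩ : PicF.IsInvertible Ω := omega_invertible_field k X hdim
  obtain ⟨eL⟩ := MiscFlat6.nonempty_dualIso hL
  let M := CohB1.tensorMod (MiscFlat6.dual L) Ω
  have hM : PicF.IsInvertible M := HilbPolyLib.isInvertible_tensor (MiscFlat6.dual_isInvertible hL) hΩ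
  have e : CohB1.tensorMod L M ≅ Ω :=
    (HilbPolyLib.assocIso L (MiscFlat6.dual L) Ω).symm ≪≫ HilbPolyLib.congrLeft eL Ω ≪≫ HilbPolyLib.unitLeft Ω
  have h := h1_eq_h0 k X hdim hL hM e
  have h0 := FibVALib.finrank_h0_structure k X hdim
  have hd := CurvLib.deg_curve (k := k) hdim L h0
  have hO := CurvLib.isInvertible_structureModule (X := X)
  haveI := CurvLib.finite_HH (k := k) (CurvLib.isCoh_of_isInvertible hM) 0
  haveI : Nontrivial (Coh.HH X M 0) := Module.nontrivial_of_finrank_pos (R := k) (by omega)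
  obtain ⟨s, hs⟩ := CurvLib.exists_hom_ne_zero (L := M) inferInstance
  have hdM : Curv2.deg k X M 1 = 0 := by
    have h1 := GenusZeroLib.deg_tensor k hdim hL hM
    rw [show Curv2.deg k X (CohB1.tensorMod L M) 1 = Curv2.deg k X Ω 1 by
      rw [Curv2.deg, Curv2.deg, CurvLib.euler_congr (k := k) e], deg_omega k X hdim, hdeg] at h1
    omega
  haveI : IsIso s := CurvLib.isIso_of_euler_le (k := k) hO hM hdim hs (by
    rw [Curv2.deg] at hdM
    push_cast at hdM
    omega)
  exact ⟨(PicPnLib.unitRight L).symm ≪≫ HilbPolyLib.congrRight L (asIso s) ≪≫ e⟩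

end CurveDualLib

end
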