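import Groth.Agent.CurveDualLib.DualField
import Groth.Agent.FibVALib.Core
import Groth.Agent.SerreVanLib.CurveAmple

/-!
# Pluricanonical modules of families of smooth curves
-/

set_option autoImplicit false
set_option linter.style.haveILetI false
set_option linter.unusedSectionVars false
universe u

open CategoryTheory CategoryTheory.Limits AlgebraicGeometry
open KFlatLib (pb)

noncomputable section

namespace CurveDualLib

/-- Pullback commutes with tensor powers. -/
theorem nonempty_pb_tensorPow {X Y : Scheme.{u}} (g : X ⟶ Y) (L : Y.Modules) :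
    ∀ n : ℕ, Nonempty (pb g (CohB1.tensorPow L n) ≅ CohB1.tensorPow (pb g L) n)
  | 0 => ⟨KFlatLib.pullUnitIso g⟩
  | n + 1 => by
    obtain ⟨e⟩ := nonempty_pb_tensorPow g L n
    exact ⟨PicPnLib.pullTens g _ L ≪≫ HilbPolyLib.congrLeft e _⟩

theorem nonempty_tensorPow_congr {X : Scheme.{u}} {L M : X.Modules} (e : L ≅ M) :
    ∀ n : ℕ, Nonempty (CohB1.tensorPow L n ≅ CohB1.tensorPow M n)
  | 0 => ⟨Iso.refl _⟩
  | n + 1 => by
    obtain ⟨i⟩ := nonempty_tensorPow_congr e n
    exact ⟨HilbPolyLib.congrLeft i L ≪≫ HilbPolyLib.congrRight _ e⟩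

section Curve

variable (k : Type u) [Field k] (X : Scheme.{u}) [X.Over (Spec (CommRingCat.of k))]
  [IsProper (X ↘ Spec (CommRingCat.of k))] [Smooth (X ↘ Spec (CommRingCat.of k))]
  [GeometricallyConnected (X ↘ Spec (CommRingCat.of k))] (hdim : topologicalKrullDim X = 1)

include hdim in
/-- The degree of a pluricanonical module. -/
theorem deg_tensorPow_omega (n : ℕ) :
    Curv2.deg k X (CohB1.tensorPow (Omega.sheaf (X ↘ Spec (CommRingCat.of k))) n) 1 =
      (n : ℤ) * (2 * (Curv2.genus k X : ℤ) - 2) := by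
  haveI := (bcData k X hdim).int
  have h := SerreVanLib.deg_pow (k := k) hdim (omega_invertible_field k X hdim) n
  rw [deg_omega k X hdim] at h
  rw [Curv2.deg, h]
  push_cast
  ring

include hdim in
/-- Pluricanonical modules of exponent at least three are very ample in genus at least two. -/
theorem isRelVeryAmplePn_omega_pow (hg : 2 ≤ Curv2.genus k X) (n : ℕ) (hn : 3 ≤ n) :
    RelAmple.IsRelVeryAmplePn (X ↘ Spec (CommRingCat.of k))
      (CohB1.tensorPow (Omega.sheaf (X ↘ Spec (CommRingCat.of k))) n) := by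
  haveI := (bcData k X hdim).gi
  refine FibVALib.isRelVeryAmplePn_of_deg k X hdim
    (AmpleThLib.tensorPow_isInvertible (omega_invertible_field k X hdim) n) ?_
  rw [deg_tensorPow_omega k X hdim]
  have h1 : (3 : ℤ) ≤ n := by exact_mod_cast hn
  have h2 : (2 : ℤ) ≤ Curv2.genus k X := by exact_mod_cast hg
  nlinarith

include hdim in
/-- Pluricanonical modules of exponent at least two have no first cohomology in genus at least two. -/
theorem subsingleton_h1_omega_pow (hg : 2 ≤ Curv2.genus k X) (n : ℕ) (hn : 2 ≤ n) :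
    Subsingleton (Coh.HH X (CohB1.tensorPow (Omega.sheaf (X ↘ Spec (CommRingCat.of k))) n) 1) := by
  haveI := (bcData k X hdim).gi
  refine FibVALib.h1_vanish k X hdim (AmpleThLib.tensorPow_isInvertible (omega_invertible_field k X hdim) n) ?_
  rw [deg_tensorPow_omega k X hdim]
  have h1 : (2 : ℤ) ≤ n := by exact_mod_cast hn
  have h2 : (2 : ℤ) ≤ Curv2.genus k X := by exact_mod_cast hg
  nlinarith

include hdim in
/-- The dimension of the sections of a pluricanonical module. -/
theorem h0_omega_pow (hg : 2 ≤ Curv2.genus k X) (n : ℕ) (hn : 2 ≤ n) :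
    Module.finrank k (Coh.HH X (CohB1.tensorPow (Omega.sheaf (X ↘ Spec (CommRingCat.of k))) n) 0) =
      (2 * n - 1) * (Curv2.genus k X - 1) := by
  haveI := (bcData k X hdim).gi
  haveI := (bcData k X hdim).int
  haveI := subsingleton_h1_omega_pow k X hdim hg n hn
  have h2 := CurvLib.deg_curve (k := k) hdim
    (CohB1.tensorPow (Omega.sheaf (X ↘ Spec (CommRingCat.of k))) n) (FibVALib.finrank_h0_structure k X hdim)
  rw [deg_tensorPow_omega k X hdim, Module.finrank_zero_of_subsingleton (R := k)
    (M := Coh.HH X (CohB1.tensorPow (Omega.sheaf (X ↘ Spec (CommRingCat.of k))) n) 1)] at h2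
  zify [show 1 ≤ 2 * n by omega, show 1 ≤ Curv2.genus k X by omega]
  push_cast at h2
  nlinarith

end Curve

section Family

variable {X S : Scheme.{u}} (f : X ⟶ S) [IsProper f] [Smooth f] [GeometricallyConnected f]
  (hdim : ∀ s : S, topologicalKrullDim ↥(f.fiber s) = 1)

/-- The structure of a fibre as a curve over the residue field. -/
@[instance_reducible] def fibreOver (s : S) : (f.fiber s).Over (Spec (CommRingCat.of (S.residueField s))) :=
  ⟨f.fiberToSpecResidueField s⟩

attribute [local instance] fibreOver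

theorem fibre_data (s : S) :
    IsProper ((f.fiber s) ↘ Spec (CommRingCat.of (S.residueField s))) ∧
      Smooth ((f.fiber s) ↘ Spec (CommRingCat.of (S.residueField s))) ∧
      GeometricallyConnected ((f.fiber s) ↘ Spec (CommRingCat.of (S.residueField s))) :=
  ⟨MorphismProperty.pullback_snd f _ inferInstance, MorphismProperty.pullback_snd f _ inferInstance,
    MorphismProperty.pullback_snd f _ inferInstance⟩

include hdim in
theorem omega_invertible_family : PicF.IsInvertible (Omega.sheaf f) := by
  haveI := FibVALib.geometricallyIntegral_of_geometricallyConnected f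
  exact isInvertible_omega f (irreducible_fibre f) hdim

/-- Pluricanonical modules restrict to the fibres. -/
theorem nonempty_fibre_omega_pow (s : S) (n : ℕ) :
    Nonempty ((Scheme.Modules.pullback (f.fiberι s)).obj (CohB1.tensorPow (Omega.sheaf f) n) ≅
      CohB1.tensorPow (Omega.sheaf ((f.fiber s) ↘ Spec (CommRingCat.of (S.residueField s)))) n) := by
  obtain ⟨hp, -, -⟩ := fibre_data f s
  obtain ⟨e⟩ := nonempty_omega_pullback f (S.fromSpecResidueField s) (f.fiberι s)
    ((f.fiber s) ↘ Spec (CommRingCat.of (S.residueField s))) (IsPullback.of_hasPullback _ _)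
  obtain ⟨i⟩ := nonempty_pb_tensorPow (f.fiberι s) (Omega.sheaf f) n
  obtain ⟨j⟩ := nonempty_tensorPow_congr e n
  exact ⟨i ≪≫ j⟩

include hdim in
/-- Pluricanonical modules have no fibrewise first cohomology. -/
theorem subsingleton_fiberH_omega_pow {g : ℕ} (hg : 2 ≤ g)
    (hgen : ∀ s : S, Curv2.genus (S.residueField s) (f.fiber s) = g) (n : ℕ) (hn : 2 ≤ n) (s : S) :
    Subsingleton (CohIII.fiberH f (CohB1.tensorPow (Omega.sheaf f) n) s 1) := by
  obtain ⟨_, _, _⟩ := fibre_data f s
  obtain ⟨e⟩ := nonempty_fibre_omega_pow f s n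
  haveI := subsingleton_h1_omega_pow (S.residueField s) (f.fiber s) (hdim s) (hgen s ▸ hg) n hn
  exact (CurvLib.hIso (k := S.residueField s) e 1).toEquiv.subsingleton

include hdim in
/-- Pluricanonical modules are locally very ample over the base. -/
theorem exists_open_veryAmple_omega_pow {g : ℕ} (hg : 2 ≤ g)
    (hgen : ∀ s : S, Curv2.genus (S.residueField s) (f.fiber s) = g) (n : ℕ) (hn : 3 ≤ n) (s : S) :
    ∃ U : S.Opens, s ∈ U ∧
      RelAmple.IsRelVeryAmplePn (f ∣_ U) ((CohB1.tensorPow (Omega.sheaf f) n).restrict (f ⁻¹ᵁ U).ι) := by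
  obtain ⟨_, _, _⟩ := fibre_data f s
  obtain ⟨e⟩ := nonempty_fibre_omega_pow f s n
  obtain ⟨m, i, hi, hif, ⟨φ⟩⟩ := isRelVeryAmplePn_omega_pow (S.residueField s) (f.fiber s) (hdim s)
    (hgen s ▸ hg) n hn
  exact FibVALib.exists_open_isRelVeryAmplePn f
    (AmpleThLib.tensorPow_isInvertible (omega_invertible_family f hdim) n) s
    ⟨m, i, hi, hif, ⟨e ≪≫ φ⟩⟩ (subsingleton_fiberH_omega_pow f hdim hg hgen n (by omega) s)

end Family

end CurveDualLib

end
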