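import Groth.Agent.CurveDualLib.Family
import Groth.Agent.SteinLib.EtaleMain
import Groth.Agent.SteinLib.Factor
import Groth.Agent.AlgSpLib.ReducedSmooth
import Groth.Agent.AmpleThLib.VeryAmple
import Groth.Agent.AmpleThLib.Ample
import Groth.Agent.AmpleDevLib.Components
import Groth.Agent.KFlatLib.PerfectPull
import Groth.Agent.S3701
import Groth.Agent.S9776

/-!
# Ampleness of the differentials of a smooth curve of negative Euler characteristic
-/

set_option autoImplicit false
set_option linter.style.haveILetI false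
universe u

open CategoryTheory CategoryTheory.Limits AlgebraicGeometry

noncomputable section

namespace CurveDualLib

/-- Differentials do not change when the structure morphism is composed with an étale morphism. -/
theorem nonempty_omega_comp_etale {X T S : Scheme.{u}} (p : X ⟶ T) (g : T ⟶ S) [Etale g] [QuasiSeparated p]
    [QuasiSeparated (p ≫ g)] :
    Nonempty (Omega.sheaf (p ≫ g) ≅ Omega.sheaf p) := by
  have hsq : p ≫ g = 𝟙 X ≫ p ≫ g := (Category.id_comp _).symm
  obtain ⟨c, hc, -⟩ := Groth.Agent.S9370.result (p ≫ g) p (𝟙 X) g hsq _ _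
    (OmegaAffLib.isUniversal_dOmega (f := p ≫ g)) _ _ (OmegaAffLib.isUniversal_dOmega (f := p))
  have hi := Groth.Agent.S9776.result (p ≫ g) p (𝟙 X) g hsq.symm _ _
    (OmegaAffLib.isUniversal_dOmega (f := p ≫ g)) _ _ (OmegaAffLib.isUniversal_dOmega (f := p)) c hc
  exact ⟨((Scheme.Modules.pullbackId X).app _).symm ≪≫ @asIso _ _ _ _ c hi⟩

theorem smooth_of_comp_etale {X T S : Scheme.{u}} (p : X ⟶ T) (g : T ⟶ S) [Etale g] [h : Smooth (p ≫ g)] :
    Smooth p := by
  haveI : MorphismProperty.HasOfPostcompProperty @Smooth @Etale := by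
    haveI : MorphismProperty.IsMultiplicative @Smooth := { id_mem := fun _ => inferInstance }
    refine (MorphismProperty.hasOfPostcompProperty_iff_le_diagonal (P := @Smooth) (Q := @Etale)).2 ?_
    intro A B a ha
    haveI : Etale a := ha
    haveI : IsOpenImmersion (pullback.diagonal a) := inferInstance
    exact (inferInstance : Smooth (pullback.diagonal a))
  exact MorphismProperty.of_postcomp (W := @Smooth) (W' := @Etale) p g ‹_› h

/-- An integral scheme finite over a field is the spectrum of a field. -/
theorem exists_iso_spec_field {k : Type u} [Field k] {T : Scheme.{u}} (g : T ⟶ Spec (CommRingCat.of k)) [IsFinite g]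
    [IsIntegral T] : ∃ (K : Type u) (_ : Field K), Nonempty (T ≅ Spec (CommRingCat.of K)) := by
  haveI : IsAffine T := isAffine_of_isAffineHom g
  exact ⟨Γ(T, ⊤), (isField_of_universallyClosed k g).toField, ⟨T.isoSpec⟩⟩

variable (k : Type u) [Field k] (X : Scheme.{u}) [X.Over (Spec (CommRingCat.of k))]

/-- Dimensions of cohomology over a bigger ground field. -/
theorem finrank_HH_tower (K : Type u) [Field K] (p : X ⟶ Spec (CommRingCat.of K)) (φ : k →+* K)
    (h : p ≫ Spec.map (CommRingCat.ofHom φ) = X ↘ Spec (CommRingCat.of k)) (M : X.Modules) (n : ℕ) :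
    Module.finrank k (Coh.HH X M n) =
      (letI := φ.toAlgebra; Module.finrank k K) *
        (letI : X.Over (Spec (CommRingCat.of K)) := ⟨p⟩; Module.finrank K (Coh.HH X M n)) := by
  letI : X.Over (Spec (CommRingCat.of K)) := ⟨p⟩
  letI := φ.toAlgebra
  have hc : ∀ a : k, Coh.toGlobal (X ↘ Spec (CommRingCat.of k)) a = Coh.toGlobal p (φ a) := fun a => by
    have hn := Scheme.ΓSpecIso_inv_naturality (CommRingCat.ofHom φ)
    rw [← h]
    simp only [Coh.toGlobal, RingHom.coe_comp, Function.comp_apply]
    exact congrArg (fun y => p.appTop.hom y) (congr($(hn).hom a)).symm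
  haveI : IsScalarTower k K (Coh.HH X M n) := ⟨fun a b x => by
    show (Coh.toGlobal p (φ a * b)) • x = Coh.toGlobal (X ↘ Spec (CommRingCat.of k)) a • (Coh.toGlobal p b • x)
    rw [map_mul, mul_smul, hc]⟩
  exact (Module.finrank_mul_finrank k K (Coh.HH X M n)).symm

/-- The differentials of a smooth proper irreducible curve with negative Euler characteristic are ample. -/
theorem isAmple_omega [IsProper (X ↘ Spec (CommRingCat.of k))] [Smooth (X ↘ Spec (CommRingCat.of k))]
    [IrreducibleSpace X] (hdim : topologicalKrullDim X = 1)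
    (hlt : Module.finrank k (Coh.HH X (Coh.structureModule X) 0) <
      Module.finrank k (Coh.HH X (Coh.structureModule X) 1)) :
    CohB1.IsAmple (Omega.sheaf (X ↘ Spec (CommRingCat.of k))) := by
  obtain ⟨q, hq⟩ : ∃ q : X ⟶ Spec (CommRingCat.of k), q = X ↘ Spec (CommRingCat.of k) := ⟨_, rfl⟩
  haveI : IsProper q := by rw [hq]; infer_instance
  haveI : Smooth q := by rw [hq]; infer_instance
  rw [← hq]
  haveI : IsReduced X := AlgSpLib.isReduced_of_smooth q
  haveI : IsIntegral X := isIntegral_of_irreducibleSpace_of_isReduced X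
  obtain ⟨hgf, hge⟩ := Groth.Agent.S3701.result q fun Ω _ _ σ => by
    haveI : Smooth (pullback.snd q σ) := inferInstance
    exact AlgSpLib.isReduced_of_smooth (pullback.snd q σ)
  haveI := SteinLib.surjective_toNormalization q
  haveI : IrreducibleSpace q.normalization :=
    q.toNormalization.surjective.irreducibleSpace q.toNormalization.continuous
  haveI : IsReduced q.normalization := AlgSpLib.isReduced_of_smooth q.fromNormalization
  haveI : IsIntegral q.normalization := isIntegral_of_irreducibleSpace_of_isReduced _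
  obtain ⟨K, _, ⟨e⟩⟩ := exists_iso_spec_field q.fromNormalization
  obtain ⟨p, hp⟩ : ∃ p : X ⟶ Spec (CommRingCat.of K), p = q.toNormalization ≫ e.hom := ⟨_, rfl⟩
  obtain ⟨φ, hφ⟩ : ∃ φ : k →+* K, Spec.map (CommRingCat.ofHom φ) = e.inv ≫ q.fromNormalization :=
    ⟨(Spec.preimage (e.inv ≫ q.fromNormalization)).hom, Spec.map_preimage _⟩
  have hpq : p ≫ Spec.map (CommRingCat.ofHom φ) = q := by
    rw [hp, hφ]; simp
  haveI : Etale (Spec.map (CommRingCat.ofHom φ)) := by rw [hφ]; infer_instance
  haveI : IsProper p := by
    haveI := SteinLib.isProper_toNormalization q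
    rw [hp]; infer_instance
  haveI : Smooth p := by
    haveI : Smooth (p ≫ Spec.map (CommRingCat.ofHom φ)) := by rw [hpq]; infer_instance
    exact smooth_of_comp_etale p (Spec.map (CommRingCat.ofHom φ))
  haveI : GeometricallyConnected p := by
    haveI := SteinLib.geometricallyConnected_toNormalization q
    rw [hp]
    haveI : MorphismProperty.RespectsIso @GeometricallyConnected := MorphismProperty.IsStableUnderBaseChange.respectsIso
    exact MorphismProperty.RespectsIso.postcomp @GeometricallyConnected e.hom q.toNormalization inferInstance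
  obtain ⟨ω⟩ := nonempty_omega_comp_etale p (Spec.map (CommRingCat.ofHom φ))
  letI : X.Over (Spec (CommRingCat.of K)) := ⟨p⟩
  haveI : IsProper (X ↘ Spec (CommRingCat.of K)) := ‹IsProper p›
  haveI : Smooth (X ↘ Spec (CommRingCat.of K)) := ‹Smooth p›
  haveI : GeometricallyConnected (X ↘ Spec (CommRingCat.of K)) := ‹GeometricallyConnected p›
  have hg : 2 ≤ Curv2.genus K X := by
    have h0 := finrank_HH_tower k X K p φ (hpq.trans hq) (Coh.structureModule X) 0
    have h1 := finrank_HH_tower k X K p φ (hpq.trans hq) (Coh.structureModule X) 1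
    have hpos : 1 ≤ Module.finrank K (Coh.HH X (Coh.structureModule X) 0) := by
      haveI := CurvLib.finite_HH (k := K) (X := X)
        (haveI := CurvLib.isNoetherian K (X := X); DevissLib.isCoh_structureModule X) 0
      haveI : Nontrivial Γ(Coh.structureModule X, ⊤) := by
        haveI : Nonempty (⊤ : X.Opens) := ⟨⟨genericPoint X, trivial⟩⟩
        exact (inferInstance : Nontrivial Γ(X, ⊤))
      haveI : Nontrivial (Coh.HH X (Coh.structureModule X) 0) :=
        (DegPullLib.e0 (Coh.structureModule X)).toEquiv.nontrivial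
      exact Module.finrank_pos
    rw [h0, h1] at hlt
    have := Nat.lt_of_mul_lt_mul_left hlt
    show 2 ≤ Module.finrank K (Coh.HH X (Coh.structureModule X) 1)
    omega
  have hΩ : PicF.IsInvertible (Omega.sheaf p) := omega_invertible_field K X hdim
  have hA := (AmpleThLib.isAmple_tensorPow_iff hΩ (by norm_num : 0 < 3)).2
    (AmpleThLib.isAmple_of_isRelVeryAmplePn p (AmpleThLib.tensorPow_isInvertible hΩ 3)
      (isRelVeryAmplePn_omega_pow K X hdim hg 3 le_rfl))
  have hΩ' : PicF.IsInvertible (Omega.sheaf (p ≫ Spec.map (CommRingCat.ofHom φ))) := HilbPolyLib.isInvertible_of_iso ω.symm hΩ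
  have := AmpleDevLib.isAmple_of_iso hΩ hΩ' ω.symm hA
  rwa [hpq] at this

end CurveDualLib

end
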