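import Groth.Agent.CurveDualLib.Canon

/-!
# Numerical Serre duality on smooth curves over algebraically closed fields
-/

set_option autoImplicit false
set_option linter.style.haveILetI false
set_option linter.unusedSectionVars false
universe u

open CategoryTheory CategoryTheory.Limits AlgebraicGeometry TopologicalSpace Opposite
open DevissLib WithZero

noncomputable section

namespace CurveDualLib

theorem sp_natural {X : Scheme.{u}} [IsIntegral X] {M N : X.Modules} (φ : M ⟶ N) (x : X) (m : (St x).obj M) :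
    sp N x (((St x).map φ).hom m) = ((St (genericPoint X)).map φ).hom (sp M x m) := by
  obtain ⟨U, hU, s, rfl⟩ := exists_gm_eq M x m
  rw [gm_app, sp_gm, sp_gm, gm_app]

theorem stalk_map_bijective {X : Scheme.{u}} {M N : X.Modules} (e : M ≅ N) (x : X) :
    Function.Bijective ((St x).map e.hom).hom :=
  ((St x).mapIso e).toLinearEquiv.bijective

theorem isGen_map {X : Scheme.{u}} {M N : X.Modules} (e : M ≅ N) {x : X} {b : (St x).obj M} (hb : IsGen M x b) :
    IsGen N x (((St x).map e.hom).hom b) := by
  have h : (fun c : X.presheaf.stalk x => c • ((St x).map e.hom).hom b) =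
      ((St x).map e.hom).hom ∘ fun c => c • b := funext fun c => (map_smul _ c b).symm
  unfold IsGen
  rw [h]
  exact (stalk_map_bijective e x).comp hb

variable {k : Type u} [Field k] {X : Scheme.{u}} [X.Over (Spec (CommRingCat.of k))] [IsIntegral X]
  [Smooth (X ↘ Spec (CommRingCat.of k))] (hdim : topologicalKrullDim X = 1)

attribute [local instance] algFF

theorem IsDiv.map {L M : X.Modules} (e : L ≅ M) {σ : Gst L} {D : FunFld.Divisor k X.functionField}
    (hD : IsDiv hdim L σ D) : IsDiv hdim M (((St (genericPoint X)).map e.hom).hom σ) D := fun x hx => by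
  obtain ⟨b, hb, g, hg0, hg, hord⟩ := hD x hx
  exact ⟨_, isGen_map e hb, g, hg0, by rw [hg, map_smul, sp_natural], hord⟩

theorem IsDiv.stT {L M : X.Modules} (hL : PicF.IsInvertible L) (hM : PicF.IsInvertible M) {σ : Gst L} {τ : Gst M}
    {D E : FunFld.Divisor k X.functionField} (hD : IsDiv hdim L σ D) (hE : IsDiv hdim M τ E) :
    IsDiv hdim (CohB1.tensorMod L M) (CurveDualLib.stT L M (genericPoint X) σ τ) (D + E) := fun x hx => by
  obtain ⟨b, hb, g, hg0, hg, hord⟩ := hD x hx
  obtain ⟨b', hb', g', hg0', hg', hord'⟩ := hE x hx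
  refine ⟨_, isGen_stT hL hM hb hb', g * g', mul_ne_zero hg0 hg0', ?_, ?_⟩
  · rw [hg, hg', map_smul, map_smul, LinearMap.smul_apply, smul_smul, sp_stT, mul_comm]
  · rw [Groth.Agent.FFLib.ord_mul _ hg0 hg0', hord, hord', Finsupp.add_apply]

variable [IsAlgClosed k] [IsProper (X ↘ Spec (CommRingCat.of k))]

include hdim in
/-- The degree of the differentials. -/
theorem deg_omega_closed :
    Curv2.deg k X (Omega.sheaf (X ↘ Spec (CommRingCat.of k))) 1 = 2 * (Curv2.genus k X : ℤ) - 2 := by
  obtain ⟨C, σ, hσ, hC, hcan⟩ := exists_canonical (k := k) hdim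
  rw [deg_eq_deg hdim (omega_invertible hdim) hσ hC,
    ((Groth.Agent.S10992.result k X.functionField (isFunctionField hdim) C).1 hcan).2, genus_eq hdim]

include hdim in
/-- The dimension of the space of global differentials. -/
theorem h0_omega_closed :
    Module.finrank k (Coh.HH X (Omega.sheaf (X ↘ Spec (CommRingCat.of k))) 0) = Curv2.genus k X := by
  obtain ⟨C, σ, hσ, hC, hcan⟩ := exists_canonical (k := k) hdim
  rw [finrank_h0_eq_ell hdim (omega_invertible hdim) hσ hC,
    ((Groth.Agent.S10992.result k X.functionField (isFunctionField hdim) C).1 hcan).1, genus_eq hdim]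

include hdim in
/-- Serre duality, numerically. -/
theorem h1_eq_h0_closed {L M : X.Modules} (hL : PicF.IsInvertible L) (hM : PicF.IsInvertible M)
    (e : CohB1.tensorMod L M ≅ Omega.sheaf (X ↘ Spec (CommRingCat.of k))) :
    Module.finrank k (Coh.HH X L 1) = Module.finrank k (Coh.HH X M 0) := by
  let η := genericPoint X
  have hΩ := omega_invertible (k := k) hdim
  have hK := isFunctionField (k := k) (X := X) hdim
  obtain ⟨C, ω, hω, hC, hcan⟩ := exists_canonical (k := k) hdim
  obtain ⟨σ, hσ⟩ := exists_gen hL η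
  obtain ⟨τ₀, hτ₀⟩ := exists_gen hM η
  obtain ⟨c, hc, hcω⟩ := exists_unit_smul (isGen_map e (isGen_stT hL hM hσ hτ₀)) hω
  have hτ : IsGen M η (c • τ₀) := isGen_unit_smul hτ₀ hc
  obtain ⟨D, hD⟩ := exists_isDiv (k := k) hdim hL hσ
  obtain ⟨E, hE⟩ := exists_isDiv (k := k) hdim hM hτ
  have hDE := (IsDiv.stT hdim hL hM hD hE).map hdim e
  rw [show ((St η).map e.hom).hom (stT L M η σ (c • τ₀)) = ω by rw [map_smul, map_smul, ← hcω]] at hDE
  have hsum : C = D + E := Finsupp.ext fun P => by
    obtain ⟨x, hx, rfl⟩ := exists_point (k := k) hdim P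
    obtain ⟨b, hb, g, hg0, hg, hord⟩ := hDE x hx
    rw [← hord, IsDiv.spec hdim hΩ hC hx hb hg0 hg]
  have h1 := Groth.Agent.S10990.result k X.functionField hK C hcan D
  rw [show C - D = E by rw [hsum]; abel] at h1
  have h2 := CurvLib.euler_curve (k := k) hdim L
  rw [RRVanLib.euler_eq_deg hdim RRVanLib.finrank_h0_structure, finrank_h0_eq_ell hdim hL hσ hD,
    deg_eq_deg hdim hL hσ hD, ← genus_eq hdim] at h2
  rw [finrank_h0_eq_ell hdim hM hτ hE]
  omega

include hdim in
/-- The first cohomology of the differentials is one-dimensional. -/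
theorem h1_omega_closed :
    Module.finrank k (Coh.HH X (Omega.sheaf (X ↘ Spec (CommRingCat.of k))) 1) = 1 := by
  have h2 := CurvLib.euler_curve (k := k) hdim (Omega.sheaf (X ↘ Spec (CommRingCat.of k)))
  rw [RRVanLib.euler_eq_deg hdim RRVanLib.finrank_h0_structure, deg_omega_closed hdim, h0_omega_closed hdim] at h2
  omega

end CurveDualLib

end
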