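import Groth.Agent.CurveDualLib.Ord
import Groth.Agent.RRVanLib.GG
import Groth.Agent.DetDegLib.Main
import Groth.Agent.FFLib.DegOne

/-!
# Degree of an invertible module as the degree of the divisor of a rational section
-/

set_option autoImplicit false
set_option linter.style.haveILetI false
set_option linter.unusedSectionVars false
universe u

open CategoryTheory CategoryTheory.Limits AlgebraicGeometry TopologicalSpace Opposite
open DevissLib DetDegLib WithZero IsLocalRing

noncomputable section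

namespace CurveDualLib

variable {k : Type u} [Field k] [IsAlgClosed k] {X : Scheme.{u}} [X.Over (Spec (CommRingCat.of k))] [IsIntegral X]
  [Smooth (X ↘ Spec (CommRingCat.of k))] [IsProper (X ↘ Spec (CommRingCat.of k))]
  (hdim : topologicalKrullDim X = 1)

attribute [local instance] algFF

variable {L : X.Modules} (hL : PicF.IsInvertible L)

include hL in
/-- Over an algebraically closed field the degree of a line bundle is the degree of its divisor. -/
theorem deg_eq_deg {σ : Gst L} (hσ : IsGen L (genericPoint X) σ) {D : FunFld.Divisor k X.functionField}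
    (hD : IsDiv hdim L σ D) : Curv2.deg k X L 1 = D.deg := by
  classical
  haveI : IsNoetherian X := CurvLib.isNoetherian k
  let η := genericPoint X
  have hLc := CurvLib.isCoh_of_isInvertible hL
  -- a section over an open with germ `σ`
  obtain ⟨U₀, hηU₀, e₀, he₀⟩ := exists_gm_eq L η σ
  obtain ⟨U₁, hηU₁, e₁, he₁⟩ := exists_genAt hL η
  obtain ⟨c, hc⟩ := (he₁ η hηU₁).2 σ
  have hc0 : c ≠ 0 := fun h => ne_zero_of_isGen hL hσ (by rw [← hc, h]; exact zero_smul _ _)
  obtain ⟨V₁, hηV₁, r, hr⟩ := TopCat.Presheaf.exists_germ_eq X.presheaf (x := η) c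
  let U : X.Opens := U₀ ⊓ (U₁ ⊓ X.basicOpen r)
  have hηU : η ∈ U := ⟨hηU₀, hηU₁, (Scheme.mem_basicOpen X r _ hηV₁).2
    (hr ▸ (Ne.isUnit (G₀ := X.functionField) hc0))⟩
  let e : Γ(L, U) := L.presheaf.map (homOfLE (inf_le_left : U ≤ U₀)).op e₀
  have heη : gm L η hηU e = σ := (gm_map L (inf_le_left : U ≤ U₀) η hηU e₀).trans he₀
  have hframe : ∀ (x : X) (hx : x ∈ U), IsGen L x (gm L x hx e) := by
    intro x hx
    obtain ⟨hx₀, hx₁, hxr⟩ := hx
    have hxV : x ∈ V₁ := X.basicOpen_le r hxr
    have hu : IsUnit (X.presheaf.germ V₁ x hxV r) := (Scheme.mem_basicOpen X r _ hxV).1 hxr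
    have hxU' : x ∈ U := ⟨hx₀, hx₁, hxr⟩
    have : gm L x hxU' e = X.presheaf.germ V₁ x hxV r • gm L x hx₁ e₁ := by
      refine sp_injective hL x ?_
      rw [sp_gm, sp_smul, sp_gm, toFF_germ]
      exact heη.trans (hc.symm.trans (by rw [← hr]))
    rw [this]
    exact isGen_unit_smul (he₁ x hx₁) hu
  have hTd : topologicalKrullDim ↥((U : Set X)ᶜ) ≤ 0 :=
    CurvLib.topologicalKrullDim_le_zero_of_lt hdim U.isOpen.isClosed_compl
      fun h => (h.ge (Set.mem_univ η)) hηU
  obtain ⟨hT, hTc⟩ := CurvLib.finite_isClosed_of_dim_le_zero U.isOpen.isClosed_compl hTd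
  -- equations at the points outside
  have key : ∀ x : X, ∃ (f G : X.presheaf.stalk x) (b : (St x).obj L), x ∉ U → f ≠ 0 ∧ G ≠ 0 ∧ IsGen L x b ∧
      (∀ hx : IsClosed ({x} : Set X),
        (ptPlace (k := k) hdim hx).ord (toFF x G) - (ptPlace (k := k) hdim hx).ord (toFF x f) = D (ptPlace hdim hx)) ∧
      Function.Injective ((St x).map (eta U L)).hom ∧
      f • gm (Pu U L) x (show x ∈ (⊤ : X.Opens) from trivial) (eP e) = G • ((St x).map (eta U L)).hom b := by
    intro x
    by_cases hxU : x ∈ U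
    · exact ⟨0, 0, 0, fun h => absurd hxU h⟩
    have hx := hTc x hxU
    obtain ⟨V, hxV, eV, heV⟩ := exists_genAt hL x
    have hb := heV x hxV
    obtain ⟨g, hg0, hg⟩ := exists_coord hL hσ hb
    obtain ⟨G, f, hf, hGf⟩ := IsFractionRing.div_surjective (X.presheaf.stalk x) g
    have hf0 : f ≠ 0 := nonZeroDivisors.ne_zero hf
    have hf0' : toFF x f ≠ 0 := fun h => hf0 (toFF_injective x (h.trans (map_zero _).symm))
    have hG : toFF x G = g * toFF x f := (div_eq_iff hf0').1 hGf
    have hG0 : G ≠ 0 := fun h => by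
      rw [h, map_zero] at hG
      exact mul_ne_zero hg0 hf0' hG.symm
    refine ⟨f, G, gm L x hxV eV, fun _ => ⟨hf0, hG0, hb, fun hx' => ?_, ?_, ?_⟩⟩
    · rw [hG, Groth.Agent.FFLib.ord_mul _ hg0 hf0', IsDiv.spec hdim hL hD hx' hb hg0 hg]
      ring
    · intro a a' haa
      refine sp_injective hL x ?_
      have hnat : ∀ m, sp (Pu U L) x (((St x).map (eta U L)).hom m) =
          ((St η).map (eta U L)).hom (sp L x m) := fun m => by
        obtain ⟨W, hW, s, rfl⟩ := exists_gm_eq L x m
        rw [gm_app, sp_gm, sp_gm, gm_app]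
      exact eta_injective_on hηU ((hnat a).symm.trans ((congrArg (sp (Pu U L) x) haa).trans (hnat a')))
    · obtain ⟨W₁, hW₁, f', rfl⟩ := TopCat.Presheaf.exists_germ_eq X.presheaf (x := x) f
      obtain ⟨W₂, hW₂, G', rfl⟩ := TopCat.Presheaf.exists_germ_eq X.presheaf (x := x) G
      let W : X.Opens := (W₁ ⊓ W₂) ⊓ V
      have hxW : x ∈ W := ⟨⟨hW₁, hW₂⟩, hxV⟩
      have i₁ : W ≤ W₁ := fun y hy => hy.1.1
      have i₂ : W ≤ W₂ := fun y hy => hy.1.2
      have i₃ : W ≤ V := fun y hy => hy.2
      let z : Γ(L, W) := X.presheaf.map (homOfLE i₂).op G' • L.presheaf.map (homOfLE i₃).op eV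
      have hz : gm L x hxW z = X.presheaf.germ W₂ x hW₂ G' • gm L x hxV eV := by
        rw [gm_smul, gm_map L i₃ x hxW, TopCat.Presheaf.germ_res_apply]
      have hηW : η ∈ W ⊓ U := ⟨mem_of_nonempty hxW, hηU⟩
      have hrel := gm_rel (M := L) hxW (X.presheaf.map (homOfLE i₁).op f') e z (section_ext hL _ _ hηW (by
        rw [gm_smul, gm_map L (inf_le_right : W ⊓ U ≤ U) η hηW, gm_map L (inf_le_left : W ⊓ U ≤ W) η hηW, heη,
          TopCat.Presheaf.germ_res_apply, TopCat.Presheaf.germ_res_apply, ← toFF_germ hW₁, ← sp_gm L hxW z, hz,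
          sp_smul, hg, smul_smul]
        congr 1
        exact (hG.trans (mul_comm _ _)).symm))
      rw [TopCat.Presheaf.germ_res_apply, hz, map_smul] at hrel
      exact hrel
  choose f G b hkey using key
  have h := euler_frame k hdim.le hLc (n := 1) (U := U) (fun _ => e) hT hTd
    (fun x hx => (frameAt_one_iff e hx).2 (hframe x hx)) f (fun x => Matrix.of fun _ _ => G x)
    fun x hxU => by
      obtain ⟨hf, hG, hb, -, hinj, hrel⟩ := hkey x hxU
      refine ⟨fun _ => b x, ?_, mem_nonZeroDivisors_iff_ne_zero.2 hf, ?_, hinj, fun j => ?_⟩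
      · have e1 : (fun c : Fin 1 → X.presheaf.stalk x => ∑ i, c i • b x) =
            (fun c => c • b x) ∘ (Equiv.funUnique (Fin 1) (X.presheaf.stalk x)) :=
          funext fun c => by simp
        rw [e1]
        exact hb.comp (Equiv.bijective _)
      · rw [Matrix.det_unique]
        exact mem_nonZeroDivisors_iff_ne_zero.2 hG
      · simpa using hrel
  rw [Nat.cast_one, one_mul] at h
  rw [RRVanLib.euler_eq_deg hdim RRVanLib.finrank_h0_structure] at h
  have h' : Curv2.deg k X L 1 = ∑ x ∈ hT.toFinset, degTerm k x (G x) (f x) := by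
    have hO := RRVanLib.euler_structure (k := k) hdim RRVanLib.finrank_h0_structure
    rw [hO] at h
    simp only [Matrix.det_unique, Matrix.of_apply, pow_one] at h
    rw [← h]; ring
  rw [h', FunFld.Divisor.deg, Finsupp.sum]
  have hdeg1 : ∀ P : FunFld.Place k X.functionField, (P.deg : ℤ) = 1 := fun P => by
    rw [Groth.Agent.FFLib.deg_eq_one (isFunctionField hdim) P]; rfl
  simp only [hdeg1, mul_one]
  have hterm : ∀ (x : X) (hx : x ∉ U), degTerm k x (G x) (f x) = D (ptPlace hdim (hTc x hx)) := fun x hx => by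
    obtain ⟨hf, hG, -, hord, -, -⟩ := hkey x hx
    rw [← hord (hTc x hx), ord_toFF hdim _ hG, ord_toFF hdim _ hf, degTerm, resDeg_eq_one (hTc x hx)]
    simp
  choose pt hpt hpP using exists_point (k := k) (X := X) hdim
  have hsub : ∀ P ∈ D.support, pt P ∉ U := fun P hP hU => by
    refine Finsupp.mem_support_iff.1 hP ?_
    have := IsDiv.spec hdim hL hD (hpt P) (hframe _ hU) (one_ne_zero (α := X.functionField))
      (by rw [sp_gm, show ((1 : X.functionField) : X.presheaf.stalk η) = 1 from rfl, one_smul]; exact heη.symm)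
    rw [hpP P] at this
    rw [← this, FunFld.Place.ord]
    simp
  symm
  refine Finset.sum_bij_ne_zero (fun P _ _ => pt P) (fun P hP _ => hT.mem_toFinset.2 (hsub P hP))
    (fun P _ _ Q _ _ h => by
      rw [← hpP P, ← hpP Q]
      congr 1) (fun x hx hne => ?_) (fun P hP _ => ?_)
  · have hxU : x ∉ U := hT.mem_toFinset.1 hx
    rw [hterm x hxU] at hne
    exact ⟨ptPlace hdim (hTc x hxU), Finsupp.mem_support_iff.2 hne, hne,
      (ptPlace_injective hdim (hpt _) (hTc x hxU) (hpP _))⟩
  · rw [hterm _ (hsub P hP)]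
    congr 1
    exact (hpP P).symm

end CurveDualLib

end
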