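import Groth.Agent.CurveDualLib.OmegaCurve
import Groth.Agent.CurveDualLib.Deg
import Groth.Agent.FFLib.DiffDiv
import Groth.Agent.S10990
import Groth.Agent.S10992
import Groth.Agent.S10993
import Groth.Agent.GenusZeroLib.Degrees
import Groth.Agent.GenusZeroLib.Point
import Groth.Agent.CurveFFLib.Main

/-!
# The differentials of a smooth proper curve are a canonical module
-/

set_option autoImplicit false
set_option linter.style.haveILetI false
set_option linter.unusedSectionVars false
universe u

open CategoryTheory CategoryTheory.Limits AlgebraicGeometry TopologicalSpace Opposite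
open DevissLib WithZero IsLocalRing
open scoped IntermediateField

noncomputable section

namespace CurveDualLib

variable {k : Type u} [Field k] [IsAlgClosed k] {X : Scheme.{u}} [X.Over (Spec (CommRingCat.of k))] [IsIntegral X]
  [Smooth (X ↘ Spec (CommRingCat.of k))] [IsProper (X ↘ Spec (CommRingCat.of k))]
  (hdim : topologicalKrullDim X = 1)

attribute [local instance] algFF

/-- A derivation of a separably generated extension is determined by the generator. -/
theorem der_ext {k K M : Type u} [Field k] [Field K] [Algebra k K] [AddCommGroup M] [Module K M] [Module k M]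
    [IsScalarTower k K M] {t : K} [Algebra.IsSeparable k⟮t⟯ K] [Algebra.EssFiniteType k K]
    (D D' : Derivation k K M) (h : D t = D' t) : D = D' := by
  have hE : ∀ a ∈ k⟮t⟯, (D - D') a = 0 := fun a ha => by
    induction ha using IntermediateField.adjoin_induction with
    | mem a ha => rw [Set.mem_singleton_iff.1 ha, Derivation.sub_apply, h, sub_self]
    | algebraMap c => exact Derivation.map_algebraMap _ c
    | add a b _ _ h h' => rw [map_add, h, h', add_zero]
    | inv a _ h => rw [Derivation.leibniz_inv, h, smul_zero]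
    | mul a b _ _ h h' => rw [Derivation.leibniz, h, h', smul_zero, smul_zero, add_zero]
  refine sub_eq_zero.1 (Derivation.ext fun f => ?_)
  haveI : Algebra.EssFiniteType k⟮t⟯ K := Algebra.EssFiniteType.of_comp k _ _
  haveI : Algebra.FormallyUnramified k⟮t⟯ K := Algebra.FormallyUnramified.of_isSeparable _ _
  have hspan := Groth.Agent.S16548.span_of_subsingleton (k := k) (A := k⟮t⟯) (B := K)
  have hker : LinearMap.ker (D - D').liftKaehlerDifferential = ⊤ := by
    rw [eq_top_iff, ← hspan, Submodule.span_le]
    rintro _ ⟨a, rfl⟩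
    exact (Derivation.liftKaehlerDifferential_comp_D (D - D') _).trans (hE _ a.2)
  have := LinearMap.mem_ker.1 (hker ▸ Submodule.mem_top : KaehlerDifferential.D k K f ∈ LinearMap.ker _)
  rwa [Derivation.liftKaehlerDifferential_comp_D] at this

include hdim in
theorem omega_invertible : PicF.IsInvertible (Omega.sheaf (X ↘ Spec (CommRingCat.of k))) := by
  let p := X ↘ Spec (CommRingCat.of k)
  have key : ∀ s, ∃ ε : ↥(p.fiber s) ≃ₜ X, True := fun s => by
    have hr : Set.range (p.fiberι s) = Set.univ := by
      rw [Scheme.Hom.range_fiberι]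
      exact Set.eq_univ_of_forall fun y => Subsingleton.elim (α := PrimeSpectrum k) _ _
    exact ⟨(p.fiberι s).isEmbedding.toHomeomorph.trans ((Homeomorph.setCongr hr).trans
      (Homeomorph.Set.univ X)), trivial⟩
  refine isInvertible_omega p (fun s => ?_) fun s => ?_
  · obtain ⟨ε, -⟩ := key s
    rw [irreducibleSpace_def]
    have h := (IrreducibleSpace.isIrreducible_univ X).image ε.symm ε.symm.continuous.continuousOn
    rwa [Set.image_univ, ε.symm.surjective.range_eq] at h
  · obtain ⟨ε, -⟩ := key s
    exact (IsHomeomorph.topologicalKrullDim_eq _ ε.isHomeomorph).trans hdim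

include hdim in
/-- The divisor of some rational differential is canonical. -/
theorem exists_canonical : ∃ (C : FunFld.Divisor k X.functionField) (σ : Gst (Omega.sheaf (X ↘ Spec (CommRingCat.of k)))),
    IsGen (Omega.sheaf (X ↘ Spec (CommRingCat.of k))) (genericPoint X) σ ∧
    IsDiv hdim (Omega.sheaf (X ↘ Spec (CommRingCat.of k))) σ C ∧ FunFld.IsCanonical k X.functionField C := by
  let p := X ↘ Spec (CommRingCat.of k)
  have hΩ : PicF.IsInvertible (Omega.sheaf p) := omega_invertible hdim
  have hK := isFunctionField (k := k) (X := X) hdim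
  obtain ⟨x₀, hsep⟩ := CurveFFLib.exists_separating (k := k) hdim
  haveI := hsep
  let K := X.functionField
  haveI hess : Algebra.EssFiniteType k K := by
    haveI : JacobsonSpace X := LocallyOfFiniteType.jacobsonSpace p
    obtain ⟨x, -, hx⟩ := nonempty_inter_closedPoints (X := X) (Z := Set.univ) Set.univ_nonempty
      isClosed_univ.isLocallyClosed
    rw [mem_closedPoints_iff] at hx
    letI : Algebra k (X.presheaf.stalk x) := Curv2.stalkAlgebra k X x
    haveI := (HurwitzLib.exists_smooth_data (k := k) hdim hx).1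
    haveI : IsScalarTower k (X.presheaf.stalk x) K :=
      IsScalarTower.of_algebraMap_eq fun c => (algebraMap_stalk x c).symm
    haveI : Algebra.EssFiniteType (X.presheaf.stalk x) K :=
      Algebra.EssFiniteType.of_isLocalization _ (nonZeroDivisors (X.presheaf.stalk x))
    exact Algebra.EssFiniteType.comp k (X.presheaf.stalk x) _
  have hx₀ : Transcendental k x₀ := by
    intro hta
    obtain ⟨s, hs, hs'⟩ := CurveFFLib.trdeg_functionField (k := k) (X := X)
    obtain rfl : s = 1 := by rw [hdim] at hs; exact_mod_cast hs.symm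
    haveI : Algebra.IsAlgebraic k k⟮x₀⟯ := IntermediateField.isAlgebraic_adjoin_simple hta.isIntegral
    haveI : Algebra.IsAlgebraic k K := Algebra.IsAlgebraic.trans k k⟮x₀⟯ _
    rw [trdeg_eq_zero] at hs'
    simp at hs'
  obtain ⟨C, hC, hcan⟩ := Groth.Agent.FFLib.exists_canonical_dOrd hK hx₀ hsep
  let M := Gst (Omega.sheaf p)
  letI : Module k M := Module.compHom _ (algebraMap k K)
  letI : Module K M := inferInstanceAs (Module (X.presheaf.stalk (genericPoint X)) M)
  haveI : IsScalarTower k K M := IsScalarTower.of_algebraMap_smul fun _ _ => rfl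
  let δ : Derivation k K M := derSt (OmegaSh.dOmega p) (genericPoint X)
  -- the data at a closed point
  have hpt : ∀ (x : X) (hx : IsClosed ({x} : Set X)), ∃ (τ : X.presheaf.stalk x) (g : K),
      IsGen (Omega.sheaf p) x (dSt (OmegaSh.dOmega p) x τ) ∧ g ≠ 0 ∧
      δ x₀ = (g : X.presheaf.stalk (genericPoint X)) • sp (Omega.sheaf p) x (dSt (OmegaSh.dOmega p) x τ) ∧
      (ptPlace (k := k) hdim hx).ord g = C (ptPlace hdim hx) := by
    intro x hx
    obtain ⟨T, hT, hmul⟩ := exists_isGen_dSt (k := k) hdim hx hΩ
    obtain ⟨t, H, ht, hH, hd⟩ := Groth.Agent.FFLib.dOrd_spec hK (ptPlace (k := k) hdim hx)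
    rw [ptPlace_val] at ht
    obtain ⟨τ, hτ⟩ := (ptVal_le_one_iff (k := k) hdim hx t).1 (by
      rw [ht, ← exp_zero, exp_le_exp]; norm_num)
    have hτm : τ ∈ maximalIdeal (X.presheaf.stalk x) := by
      rw [← ptVal_lt_one_iff (k := k) hdim hx τ, hτ, ht, ← exp_zero, exp_lt_exp]
      norm_num
    have hτgen : maximalIdeal (X.presheaf.stalk x) = Ideal.span {τ} := by
      haveI := HurwitzLib.dvr_stalk_closed (k := k) hdim hx
      obtain ⟨ϖ, hϖ⟩ := IsDiscreteValuationRing.exists_irreducible (X.presheaf.stalk x)
      have hτ0 : τ ≠ 0 := fun h => by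
        rw [h, map_zero] at hτ
        rw [← hτ, map_zero] at ht
        exact exp_ne_zero ht.symm
      obtain ⟨n, u, rfl⟩ := IsDiscreteValuationRing.eq_unit_mul_pow_irreducible hτ0 hϖ
      have hn : n = 1 := by
        have h1 : ptVal (k := k) hdim hx (toFF x ((u : X.presheaf.stalk x) * ϖ ^ n)) = exp (-1 : ℤ) := hτ ▸ ht
        have hu : ptVal (k := k) hdim hx (toFF x (u : X.presheaf.stalk x)) = 1 :=
          le_antisymm ((ptVal_le_one_iff hdim hx _).2 ⟨_, rfl⟩) (not_lt.1 fun h =>
            (mem_maximalIdeal _).1 ((ptVal_lt_one_iff hdim hx _).1 h) u.isUnit)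
        rw [map_mul, map_pow, map_mul, map_pow, hu, one_mul, ptVal_uniformizer hdim hx hϖ, ← exp_nsmul,
          exp_inj, nsmul_eq_mul] at h1
        omega
      subst hn
      rw [pow_one, hϖ.maximalIdeal_eq, Ideal.span_singleton_mul_left_unit u.isUnit]
    -- `dτ` generates as well
    letI : Algebra k (X.presheaf.stalk x) := Curv2.stalkAlgebra k X x
    have hgenτ : IsGen (Omega.sheaf p) x (dSt (OmegaSh.dOmega p) x τ) := by
      obtain ⟨c, hc⟩ : ∃ c : k, T - algebraMap k (X.presheaf.stalk x) c ∈ maximalIdeal (X.presheaf.stalk x) := by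
        letI := Curv2.resAlgebra k X x
        haveI := HurwitzLib.finite_residueField (k := k) hx
        obtain ⟨c, hc⟩ := (IsAlgClosed.algebraMap_bijective_of_isIntegral (k := k)
          (K := X.residueField x)).2 (X.residue x T)
        refine ⟨c, ?_⟩
        rw [← residue_eq_zero_iff, map_sub, sub_eq_zero]
        exact hc.symm
      rw [hτgen, Ideal.mem_span_singleton'] at hc
      obtain ⟨a, ha⟩ := hc
      obtain ⟨b, hb⟩ := hmul a
      obtain ⟨e, he⟩ := hmul τ
      have h1 : dSt (OmegaSh.dOmega p) x T =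
          (a * e + τ * b) • dSt (OmegaSh.dOmega p) x T := by
        conv_lhs => rw [show T = a * τ + Curv2.stalkMap k X x c from (eq_add_of_sub_eq ha.symm)]
        rw [dSt_add, dSt_const, add_zero, dSt_mul, he, hb, smul_smul, smul_smul, ← add_smul]
      have h2 : a * e + τ * b = 1 := hT.1 (h1.symm.trans (one_smul _ _).symm)
      have hae : IsUnit (a * e) := by
        rw [show a * e = 1 - τ * b from eq_sub_of_add_eq h2]
        exact IsLocalRing.isUnit_one_sub_self_of_mem_nonunits _ (Ideal.mul_mem_right b _ hτm)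
      rw [he]
      exact isGen_unit_smul hT (isUnit_of_mul_isUnit_right hae)
    have hsepT := Groth.Agent.FFLib.hasse_separating hK hH
    haveI := hsepT.2
    let δ' : Derivation k K M :=
      (LinearMap.toSpanSingleton K M (δ t)).compDer (Groth.Agent.FFLib.hasseDer H hH)
    have hδ : δ = δ' := der_ext (t := t) δ δ' (by
      change δ t = LocRes.hasseD H 1 t • δ t
      rw [Groth.Agent.FFLib.hasseD_self hH, one_smul])
    have hg : δ x₀ = LocRes.hasseD H 1 x₀ • δ t := DFunLike.congr_fun hδ x₀
    have hsp : δ t = sp (Omega.sheaf p) x (dSt (OmegaSh.dOmega p) x τ) := by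
      rw [sp_dSt]
      exact congrArg (dSt (OmegaSh.dOmega p) (genericPoint X)) hτ.symm
    refine ⟨τ, LocRes.hasseD H 1 x₀, hgenτ, Groth.Agent.FFLib.hasseD_ne_zero_of_sep hK hx₀ hsep hH, ?_, ?_⟩
    · rw [← hsp]
      exact hg
    · rw [hC, hd]
  refine ⟨C, δ x₀, ?_, fun x hx => ?_, hcan⟩
  · haveI : JacobsonSpace X := LocallyOfFiniteType.jacobsonSpace p
    obtain ⟨x, -, hx⟩ := nonempty_inter_closedPoints (X := X) (Z := Set.univ) Set.univ_nonempty
      isClosed_univ.isLocallyClosed
    rw [mem_closedPoints_iff] at hx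
    obtain ⟨τ, g, hgen, hg0, hg, -⟩ := hpt x hx
    rw [hg]
    exact isGen_unit_smul (isGen_sp hΩ hgen) (Ne.isUnit (G₀ := K) hg0)
  · obtain ⟨τ, g, hgen, hg0, hg, hord⟩ := hpt x hx
    exact ⟨_, hgen, g, hg0, hg, hord⟩

include hdim in
theorem exists_large (N : ℤ) : ∃ L : X.Modules, PicF.IsInvertible L ∧ N ≤ Curv2.deg k X L 1 := by
  haveI : JacobsonSpace X := LocallyOfFiniteType.jacobsonSpace (X ↘ Spec (CommRingCat.of k))
  obtain ⟨x, -, hx⟩ := nonempty_inter_closedPoints (X := X) (Z := Set.univ) Set.univ_nonempty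
    isClosed_univ.isLocallyClosed
  rw [mem_closedPoints_iff] at hx
  haveI := HurwitzLib.dvr_stalk_closed (k := k) hdim hx
  letI := Curv2.resAlgebra k X x
  obtain ⟨L, hL, s, hd, -, -⟩ := GenusZeroLib.exists_point_bundle (k := k) hdim hx
  haveI := HurwitzLib.finite_residueField (k := k) hx
  have hpos : 0 < Module.finrank k (X.residueField x) := Module.finrank_pos
  have hmul : ∀ n : ℕ, GenusZeroLib.Realised k (X := X) ((n : ℤ) * Module.finrank k (X.residueField x)) := by
    intro n
    induction n with
    | zero => simpa using GenusZeroLib.realised_zero (k := k) (X := X)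
    | succ n ih =>
      rw [Nat.cast_succ, add_mul, one_mul]
      exact GenusZeroLib.realised_add (k := k) (hdim := hdim) ih ⟨L, hL, hd⟩
  obtain ⟨M, hM, hMd⟩ := hmul N.toNat
  refine ⟨M, hM, ?_⟩
  rw [hMd]
  calc N ≤ (N.toNat : ℤ) * 1 := by omega
    _ ≤ _ := by gcongr; exact_mod_cast hpos

include hdim in
/-- The genus of the function field is the genus of the curve. -/
theorem genus_eq : FunFld.genus k X.functionField = Curv2.genus k X := by
  obtain ⟨L, hL, hdeg⟩ := exists_large (k := k) hdim
    (2 * (Curv2.genus k X : ℤ) + 2 * (FunFld.genus k X.functionField : ℤ))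
  obtain ⟨b, hb⟩ := exists_gen hL (genericPoint X)
  obtain ⟨D, hD⟩ := exists_isDiv (k := k) hdim hL hb
  have h1 := RRVanLib.subsingleton_h1 (k := k) hdim RRVanLib.finrank_h0_structure hL (by omega)
  have h2 := CurvLib.euler_curve (k := k) hdim L
  rw [RRVanLib.euler_eq_deg hdim RRVanLib.finrank_h0_structure, finrank_h0_eq_ell hdim hL hb hD,
    Module.finrank_zero_of_subsingleton (R := k) (M := Coh.HH X L 1)] at h2
  have hdD := deg_eq_deg hdim hL hb hD
  have h3 := Groth.Agent.S10993.result k X.functionField (isFunctionField hdim) D (by omega)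
  push_cast at h2
  omega

end CurveDualLib

end
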