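import Groth.Agent.AmpleLib.Gen
import Groth.Agent.TwistLib.Basic
import Groth.Agent.TwistLib.PullGen
import Groth.Agent.ModGlueLib.Basic
import Groth.Agent.DevissLib.Stalk

/-!
# Stalks of modules on an integral scheme inside the generic stalk
-/

set_option autoImplicit false
set_option linter.style.haveILetI false
set_option linter.unusedSectionVars false
universe u

open CategoryTheory CategoryTheory.Limits AlgebraicGeometry TopologicalSpace Opposite
open DevissLib

noncomputable section

namespace CurveDualLib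

variable {X : Scheme.{u}} [IsIntegral X]

theorem mem_of_nonempty {U : X.Opens} {x : X} (hx : x ∈ U) : genericPoint X ∈ U :=
  ((genericPoint_spec X).mem_open_set_iff U.isOpen).mpr ⟨x, trivial, hx⟩

/-- The generic stalk, a vector space over the function field. -/
abbrev Gst (M : X.Modules) : ModuleCat.{u} (X.presheaf.stalk (genericPoint X)) := (St (genericPoint X)).obj M

/-- From a stalk to the generic one. -/
def sp (M : X.Modules) (x : X) : (St x).obj M →+ Gst M :=
  (M.presheaf.stalkSpecializes ((genericPoint_spec X).specializes trivial : genericPoint X ⤳ x)).hom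

theorem sp_gm (M : X.Modules) {U : X.Opens} {x : X} (hx : x ∈ U) (s : Γ(M, U)) :
    sp M x (gm M x hx s) = gm M (genericPoint X) (mem_of_nonempty hx) s :=
  TopCat.Presheaf.germ_stalkSpecializes_apply M.presheaf hx _ s

/-- A function in the function field. -/
abbrev toFF (x : X) : X.presheaf.stalk x →+* X.functionField :=
  algebraMap (X.presheaf.stalk x) X.functionField

theorem toFF_germ {U : X.Opens} {x : X} (hx : x ∈ U) (r : Γ(X, U)) :
    toFF x (X.presheaf.germ U x hx r) = X.presheaf.germ U (genericPoint X) (mem_of_nonempty hx) r :=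
  TopCat.Presheaf.germ_stalkSpecializes_apply X.presheaf hx _ r

theorem sp_smul (M : X.Modules) (x : X) (a : X.presheaf.stalk x) (m : (St x).obj M) :
    sp M x (a • m) = (toFF x a : X.presheaf.stalk (genericPoint X)) • sp M x m := by
  obtain ⟨U, hU, r, rfl⟩ := TopCat.Presheaf.exists_germ_eq X.presheaf (x := x) a
  obtain ⟨V, hV, s, rfl⟩ := exists_gm_eq M x m
  let W : X.Opens := U ⊓ V
  have hW : x ∈ W := ⟨hU, hV⟩
  rw [← TopCat.Presheaf.germ_res_apply X.presheaf (homOfLE (inf_le_left : W ≤ U)) x hW r,
    ← gm_map M (inf_le_right : W ≤ V) x hW s, ← gm_smul, sp_gm, sp_gm, gm_smul, toFF_germ]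

/-- A free generator of a stalk. -/
def IsGen (M : X.Modules) (x : X) (b : (St x).obj M) : Prop :=
  Function.Bijective fun c : X.presheaf.stalk x => c • b

variable {L : X.Modules} (hL : PicF.IsInvertible L)

include hL in
theorem exists_genAt (x : X) : ∃ (U : X.Opens) (hx : x ∈ U) (e : Γ(L, U)),
    ∀ (y : X) (hy : y ∈ U), IsGen L y (gm L y hy e) := by
  obtain ⟨U, e, hxU, he⟩ := TwistLib.exists_genOn hL x
  exact ⟨U, hxU, e, fun y hy => he.genAt hy⟩

include hL in
theorem exists_gen (x : X) : ∃ b, IsGen L x b := by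
  obtain ⟨U, hx, e, he⟩ := exists_genAt hL x
  exact ⟨_, he x hx⟩

theorem isGen_unit_smul {M : X.Modules} {x : X} {b : (St x).obj M} (hb : IsGen M x b) {a : X.presheaf.stalk x}
    (ha : IsUnit a) : IsGen M x (a • b) := by
  have : (fun c : X.presheaf.stalk x => c • a • b) = (fun c => c • b) ∘ fun c => c * a :=
    funext fun c => smul_smul c a b
  unfold IsGen
  rw [this]
  exact hb.comp ha.unit.mulRight.bijective

theorem exists_unit_smul {M : X.Modules} {x : X} {b b' : (St x).obj M} (hb : IsGen M x b) (hb' : IsGen M x b') :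
    ∃ a : X.presheaf.stalk x, IsUnit a ∧ b' = a • b := by
  obtain ⟨a, ha⟩ := hb.2 b'
  obtain ⟨c, hc⟩ := hb'.2 b
  refine ⟨a, IsUnit.of_mul_eq_one_right c (hb.1 ?_), ha.symm⟩
  simp only at ha hc ⊢
  rw [one_smul, mul_smul, ha, hc]

include hL in
theorem isGen_sp {x : X} {b : (St x).obj L} (hb : IsGen L x b) : IsGen L (genericPoint X) (sp L x b) := by
  obtain ⟨U, hx, e, he⟩ := exists_genAt hL x
  obtain ⟨a, ha, rfl⟩ := exists_unit_smul (he x hx) hb
  rw [sp_smul, sp_gm]
  exact isGen_unit_smul (he _ _) (ha.map (toFF x))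

theorem toFF_injective (x : X) : Function.Injective (toFF x) :=
  IsFractionRing.injective (X.presheaf.stalk x) X.functionField

include hL in
theorem sp_injective (x : X) : Function.Injective (sp L x) := by
  obtain ⟨b, hb⟩ := exists_gen hL x
  refine (injective_iff_map_eq_zero _).2 fun m hm => ?_
  obtain ⟨c, rfl⟩ := hb.2 m
  simp only [sp_smul] at hm ⊢
  have h := (isGen_sp hL hb).1 (a₁ := (toFF x c : X.presheaf.stalk (genericPoint X))) (a₂ := 0)
    (hm.trans (zero_smul _ _).symm)
  rw [toFF_injective x (h.trans (map_zero _).symm), zero_smul]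

include hL in
/-- A section is determined by its generic germ. -/
theorem section_ext {U : X.Opens} (s t : Γ(L, U)) (hη : genericPoint X ∈ U)
    (h : gm L (genericPoint X) hη s = gm L (genericPoint X) hη t) : s = t := by
  refine ModGlueLib.eq_of_locally s t fun x hx => ?_
  have hx' : gm L x hx s = gm L x hx t := sp_injective hL x (by rw [sp_gm, sp_gm]; exact h)
  obtain ⟨W, hW, i, j, he⟩ := TopCat.Presheaf.germ_eq L.presheaf x hx hx s t hx'
  exact ⟨W, leOfHom i, hW, he⟩

end CurveDualLib

end
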