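import Groth.Agent.CurveDualLib.Stalks
import Groth.Agent.KFlatLib.StalkTensor

/-!
# Tensor products of stalks on an integral scheme
-/

set_option autoImplicit false
set_option linter.style.haveILetI false
set_option linter.unusedSectionVars false
universe u

open CategoryTheory CategoryTheory.Limits AlgebraicGeometry TopologicalSpace Opposite
open DevissLib

noncomputable section

namespace CurveDualLib

variable {X : Scheme.{u}}

/-- The product of two germs in the stalk of the tensor product. -/
def stT (M N : X.Modules) (x : X) : (St x).obj M →ₗ[X.presheaf.stalk x] (St x).obj N →ₗ[X.presheaf.stalk x]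
    (St x).obj (CohB1.tensorMod M N) :=
  (TensorProduct.mk (X.presheaf.stalk x) _ _).compr₂ (KFlatLib.stalkTensorLin M N x)

theorem stT_gm (M N : X.Modules) {U : X.Opens} {x : X} (hx : x ∈ U) (m : Γ(M, U)) (n : Γ(N, U)) :
    stT M N x (gm M x hx m) (gm N x hx n) = gm (CohB1.tensorMod M N) x hx (AmpleLib.shT m n) :=
  KFlatLib.stalkTensorLin_germ M N x hx m n

theorem sp_stT [IsIntegral X] (M N : X.Modules) (x : X) (a : (St x).obj M) (b : (St x).obj N) :
    sp (CohB1.tensorMod M N) x (stT M N x a b) = stT M N (genericPoint X) (sp M x a) (sp N x b) := by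
  obtain ⟨U, hU, s, rfl⟩ := exists_gm_eq M x a
  obtain ⟨V, hV, t, rfl⟩ := exists_gm_eq N x b
  let W : X.Opens := U ⊓ V
  have hW : x ∈ W := ⟨hU, hV⟩
  rw [← gm_map M (inf_le_left : W ≤ U) x hW s, ← gm_map N (inf_le_right : W ≤ V) x hW t, stT_gm, sp_gm, sp_gm,
    sp_gm, stT_gm]

theorem isGen_stT [IsIntegral X] {M N : X.Modules} (hM : PicF.IsInvertible M) (hN : PicF.IsInvertible N)
    {x : X} {a : (St x).obj M} {b : (St x).obj N} (ha : IsGen M x a) (hb : IsGen N x b) :
    IsGen (CohB1.tensorMod M N) x (stT M N x a b) := by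
  obtain ⟨U, hU, e, he⟩ := exists_genAt hM x
  obtain ⟨V, hV, e', he'⟩ := exists_genAt hN x
  let W : X.Opens := U ⊓ V
  have hW : x ∈ W := ⟨hU, hV⟩
  let m : Γ(M, W) := M.presheaf.map (homOfLE (inf_le_left : W ≤ U)).op e
  let n : Γ(N, W) := N.presheaf.map (homOfLE (inf_le_right : W ≤ V)).op e'
  have hm : IsGen M x (gm M x hW m) := by
    rw [gm_map M (inf_le_left : W ≤ U) x hW e]; exact he x hU
  have hn : IsGen N x (gm N x hW n) := by
    rw [gm_map N (inf_le_right : W ≤ V) x hW e']; exact he' x hV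
  obtain ⟨α, hα, rfl⟩ := exists_unit_smul hm ha
  obtain ⟨β, hβ, rfl⟩ := exists_unit_smul hn hb
  have : stT M N x (α • gm M x hW m) (β • gm N x hW n) = (α * β) • stT M N x (gm M x hW m) (gm N x hW n) := by
    rw [map_smul, map_smul, LinearMap.smul_apply, smul_smul, mul_comm]
  rw [this, stT_gm]
  exact isGen_unit_smul (AmpleLib.GenAt.tensor (m := m) (n := n) hm hn) (hα.mul hβ)

end CurveDualLib

end
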