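import Groth.Agent.CurveDualLib.Places
import Groth.Agent.CurveDualLib.Stalks
import Groth.Agent.CurveDualLib.TensorStalk
import Groth.Agent.GenusZeroLib.Mult
import Groth.Agent.FFLib.Degree
import Groth.Agent.CurveAmpLib.Integral

/-!
# The divisor of an invertible module with a rational section, and its global sections
-/

set_option autoImplicit false
set_option linter.style.haveILetI false
set_option linter.unusedSectionVars false
universe u

open CategoryTheory CategoryTheory.Limits AlgebraicGeometry TopologicalSpace Opposite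
open DevissLib WithZero
open Groth.Agent.FFLib (v_ne_zero v_eq ord_mul)

noncomputable section

namespace CurveDualLib

variable {k : Type u} [Field k] {X : Scheme.{u}} [X.Over (Spec (CommRingCat.of k))] [IsIntegral X]
  [Smooth (X ↘ Spec (CommRingCat.of k))] (hdim : topologicalKrullDim X = 1)

attribute [local instance] algFF

/-- `D` is the divisor of the rational section `σ` of `L`. -/
def IsDiv (L : X.Modules) (σ : Gst L) (D : FunFld.Divisor k X.functionField) : Prop :=
  ∀ (x : X) (hx : IsClosed ({x} : Set X)), ∃ b, IsGen L x b ∧ ∃ g : X.functionField, g ≠ 0 ∧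
    σ = (g : X.presheaf.stalk (genericPoint X)) • sp L x b ∧ (ptPlace (k := k) hdim hx).ord g = D (ptPlace hdim hx)

variable {L : X.Modules} (hL : PicF.IsInvertible L)

include hL in
theorem ne_zero_of_isGen {σ : Gst L} (hσ : IsGen L (genericPoint X) σ) : σ ≠ 0 := fun h => by
  have := hσ.1 (a₁ := (1 : X.presheaf.stalk (genericPoint X))) (a₂ := 0) (by simp [h])
  exact one_ne_zero this

include hL in
theorem exists_coord {σ : Gst L} (hσ : IsGen L (genericPoint X) σ) {x : X} {b : (St x).obj L} (hb : IsGen L x b) :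
    ∃ g : X.functionField, g ≠ 0 ∧ σ = (g : X.presheaf.stalk (genericPoint X)) • sp L x b := by
  obtain ⟨g, hg⟩ := (isGen_sp hL hb).2 σ
  refine ⟨g, fun h => ne_zero_of_isGen hL hσ (hg.symm.trans ?_), hg.symm⟩
  change (g : X.presheaf.stalk (genericPoint X)) • sp L x b = 0
  rw [show (g : X.presheaf.stalk (genericPoint X)) = 0 from h, zero_smul]

theorem ord_toFF_unit {x : X} (hx : IsClosed ({x} : Set X)) {a : X.presheaf.stalk x} (ha : IsUnit a) :
    (ptPlace (k := k) hdim hx).ord (toFF x a) = 0 := by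
  have h1 : ptVal (k := k) hdim hx (toFF x a) ≤ 1 := (ptVal_le_one_iff hdim hx _).2 ⟨a, rfl⟩
  have h2 : ¬ ptVal (k := k) hdim hx (toFF x a) < 1 := fun h =>
    ((IsLocalRing.mem_maximalIdeal _).1 ((ptVal_lt_one_iff hdim hx a).1 h)) ha
  rw [FunFld.Place.ord, ptPlace_val, le_antisymm h1 (not_lt.1 h2)]
  simp

include hL in
theorem IsDiv.spec {σ : Gst L} {D : FunFld.Divisor k X.functionField} (h : IsDiv hdim L σ D) {x : X}
    (hx : IsClosed ({x} : Set X)) {b : (St x).obj L} (hb : IsGen L x b) {g : X.functionField} (hg0 : g ≠ 0)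
    (hg : σ = (g : X.presheaf.stalk (genericPoint X)) • sp L x b) :
    (ptPlace (k := k) hdim hx).ord g = D (ptPlace hdim hx) := by
  obtain ⟨b', hb', g', hg'0, hg', hD⟩ := h x hx
  obtain ⟨a, ha, rfl⟩ := exists_unit_smul hb' hb
  rw [sp_smul, smul_smul] at hg
  have he : g' = g * toFF x a := (isGen_sp hL hb').1 (hg'.symm.trans hg)
  rw [← hD, he, ord_mul _ hg0 (ha.map (toFF x)).ne_zero, ord_toFF_unit hdim hx ha, add_zero]

variable [IsProper (X ↘ Spec (CommRingCat.of k))]

include hL in
theorem exists_isDiv {σ : Gst L} (hσ : IsGen L (genericPoint X) σ) : ∃ D, IsDiv (k := k) hdim L σ D := by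
  classical
  haveI : IsNoetherian X := CurvLib.isNoetherian k
  choose pt hpt hpP using exists_point (k := k) (X := X) hdim
  choose b hb using fun x : X => exists_gen hL x
  choose g hg0 hg using fun x : X => exists_coord hL hσ (hb x)
  let d : FunFld.Place k X.functionField → ℤ := fun P => P.ord (g (pt P))
  obtain ⟨U, hηU, e, he⟩ := exists_genAt hL (genericPoint X)
  obtain ⟨c, hc⟩ := (he _ hηU).2 σ
  obtain ⟨V, hηV, r, hr⟩ := TopCat.Presheaf.exists_germ_eq X.presheaf (x := genericPoint X) c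
  have hc0 : c ≠ 0 := fun h => ne_zero_of_isGen hL hσ (by rw [← hc, h]; exact zero_smul _ _)
  let W : X.Opens := U ⊓ X.basicOpen r
  have hηW : genericPoint X ∈ W := ⟨hηU, by
    refine (Scheme.mem_basicOpen X r _ hηV).2 ?_
    exact hr ▸ (Ne.isUnit (G₀ := X.functionField) hc0)⟩
  have hfin : ((W : Set X)ᶜ).Finite :=
    (CurvLib.finite_isClosed_of_dim_le_zero W.isOpen.isClosed_compl
      (CurvLib.topologicalKrullDim_le_zero_of_lt hdim W.isOpen.isClosed_compl
        fun h => (h.ge (Set.mem_univ (genericPoint X))) hηW)).1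
  have hsupp : (Function.support d).Finite := by
    refine (hfin.preimage (f := pt) ?_).subset fun P hP => ?_
    · intro P _ Q _ h
      rw [← hpP P, ← hpP Q]
      congr 1
    · intro hW
      obtain ⟨hxU, hxr⟩ : pt P ∈ U ∧ pt P ∈ X.basicOpen r := hW
      have hxV : pt P ∈ V := X.basicOpen_le r hxr
      have hu : IsUnit (X.presheaf.germ V (pt P) hxV r) := (Scheme.mem_basicOpen X r _ hxV).1 hxr
      obtain ⟨a, ha, hab⟩ := exists_unit_smul (hb (pt P)) (he _ hxU)
      have h1 : σ = ((toFF (pt P) (X.presheaf.germ V (pt P) hxV r * a) : X.functionField) :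
          X.presheaf.stalk (genericPoint X)) • sp L (pt P) (b (pt P)) := by
        rw [← sp_smul, mul_smul, ← hab, sp_smul, toFF_germ, sp_gm]
        exact (hc.symm.trans (by rw [← hr]))
      have h2 : g (pt P) = toFF (pt P) (X.presheaf.germ V (pt P) hxV r * a) :=
        (isGen_sp hL (hb (pt P))).1 ((hg (pt P)).symm.trans h1)
      refine hP ?_
      change P.ord (g (pt P)) = 0
      have h4 := ord_toFF_unit (k := k) hdim (hpt P) (hu.mul ha)
      rw [hpP P] at h4
      rw [h2]
      exact h4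
  refine ⟨Finsupp.ofSupportFinite d hsupp, fun x hx => ⟨b x, hb x, g x, hg0 x, hg x, ?_⟩⟩
  rw [Finsupp.ofSupportFinite_coe]
  change _ = (ptPlace hdim hx).ord (g (pt (ptPlace hdim hx)))
  rw [ptPlace_injective hdim (hpt (ptPlace hdim hx)) hx (hpP _)]

include hL in
/-- The global sections are the Riemann–Roch space of the divisor. -/
theorem finrank_h0_eq_ell {σ : Gst L} (hσ : IsGen L (genericPoint X) σ) {D : FunFld.Divisor k X.functionField}
    (hD : IsDiv hdim L σ D) : Module.finrank k (Coh.HH X L 0) = FunFld.ell D := by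
  classical
  haveI : IsNoetherian X := CurvLib.isNoetherian k
  letI := GenusZeroLib.kmod k L
  rw [(GenusZeroLib.e0k k L).finrank_eq]
  let η := genericPoint X
  let gl : Γ(L, ⊤) → X.functionField := fun s =>
    ((LinearEquiv.ofBijective (LinearMap.toSpanSingleton (X.presheaf.stalk η) (Gst L) σ) hσ).symm
      (gm L η (show η ∈ (⊤ : X.Opens) from trivial) s) : X.presheaf.stalk η)
  have hgl : ∀ s, gm L η (show η ∈ (⊤ : X.Opens) from trivial) s = ((gl s : X.functionField) : X.presheaf.stalk η) • σ := fun s =>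
    ((LinearEquiv.ofBijective (LinearMap.toSpanSingleton (X.presheaf.stalk η) (Gst L) σ)
      hσ).apply_symm_apply _).symm
  have huniq : ∀ s (f : X.functionField), gm L η (show η ∈ (⊤ : X.Opens) from trivial) s = (f : X.presheaf.stalk η) • σ → gl s = f :=
    fun s f h => hσ.1 ((hgl s).symm.trans h)
  have hmem : ∀ s, gl s ∈ FunFld.L D := by
    intro s P
    obtain ⟨x, hx, rfl⟩ := exists_point (k := k) hdim P
    obtain ⟨b, hb, g, hg0, hg, hord⟩ := hD x hx
    obtain ⟨c, hc⟩ := hb.2 (gm L x (show x ∈ (⊤ : X.Opens) from trivial) s)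
    have h1 : (toFF x c : X.presheaf.stalk η) • sp L x b = ((gl s * g : X.functionField) : X.presheaf.stalk η) • sp L x b := by
      rw [← sp_smul, show c • b = gm L x (show x ∈ (⊤ : X.Opens) from trivial) s from hc, sp_gm, hgl, hg, smul_smul]
    have h2 : toFF x c = gl s * g := (isGen_sp hL hb).1 h1
    have h3 : (ptPlace (k := k) hdim hx).1 (gl s * g) ≤ 1 := h2 ▸ (ptVal_le_one_iff (k := k) hdim hx _).2 ⟨c, rfl⟩
    rw [map_mul, v_eq _ hg0, hord, exp_neg, ← div_eq_mul_inv, div_le_one₀ exp_pos] at h3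
    exact h3
  let Φ : Γ(L, ⊤) →ₗ[k] FunFld.L (k := k) (K := X.functionField) D :=
    { toFun := fun s => ⟨gl s, hmem s⟩
      map_add' := fun s t => Subtype.ext (huniq _ _ (by
        refine (map_add (L.presheaf.germ ⊤ η (show η ∈ (⊤ : X.Opens) from trivial)).hom s t).trans ?_
        refine (congr_arg₂ (· + ·) (hgl s) (hgl t)).trans ?_
        exact (add_smul _ _ _).symm))
      map_smul' := fun c s => Subtype.ext (huniq _ _ (by
        change gm L η (show η ∈ (⊤ : X.Opens) from trivial) (GenusZeroLib.ρ k (X := X) c • s) = _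
        rw [gm_smul, hgl, smul_smul]
        congr 1)) }
  refine LinearEquiv.finrank_eq (LinearEquiv.ofBijective Φ ⟨fun s t h => section_ext hL s t (show η ∈ (⊤ : X.Opens) from trivial) ?_, fun f => ?_⟩)
  · rw [hgl, hgl, show gl s = gl t from congrArg Subtype.val h]
  · -- local sections with the given generic germ
    let ι := {p : Σ V : X.Opens, Γ(L, V) // ∃ h : η ∈ p.1, gm L η h p.2 = (f.1 : X.presheaf.stalk η) • σ}
    have hcov : ∀ x ∈ (⊤ : X.Opens), ∃ p : ι, x ∈ p.1.1 := by
      intro x _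
      by_cases hxη : x = η
      · subst hxη
        obtain ⟨V, hV, t, ht⟩ := exists_gm_eq L η ((f.1 : X.presheaf.stalk η) • σ)
        exact ⟨⟨⟨V, t⟩, hV, ht⟩, hV⟩
      have hx := isClosed_of_ne_generic (k := k) hdim hxη
      obtain ⟨b, hb, g, hg0, hg, hord⟩ := hD x hx
      have h3 : (ptPlace (k := k) hdim hx).1 (f.1 * g) ≤ 1 := by
        rw [map_mul, v_eq _ hg0, hord, exp_neg, ← div_eq_mul_inv, div_le_one₀ exp_pos]
        exact f.2 _
      obtain ⟨c, hc⟩ := (ptVal_le_one_iff (k := k) hdim hx _).1 h3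
      obtain ⟨V, hV, t, ht⟩ := exists_gm_eq L x (c • b)
      refine ⟨⟨⟨V, t⟩, mem_of_nonempty hV, ?_⟩, hV⟩
      change gm L η _ t = _
      rw [← sp_gm L hV t, ht, sp_smul, hg, smul_smul]
      congr 1
    obtain ⟨s, hs⟩ := ModGlueLib.exists_glue (M := L) (V := ⊤) (fun p : ι => p.1.1) (fun _ => le_top) hcov
      (fun p => p.1.2) fun p q => section_ext hL _ _ (show η ∈ p.1.1 ⊓ q.1.1 from ⟨p.2.1, q.2.1⟩) (by
        rw [gm_map L (inf_le_left : p.1.1 ⊓ q.1.1 ≤ p.1.1) η, gm_map L (inf_le_right : p.1.1 ⊓ q.1.1 ≤ q.1.1) η,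
          p.2.2, q.2.2])
    obtain ⟨p, hp⟩ := hcov η trivial
    refine ⟨s, Subtype.ext (huniq s f.1 ?_)⟩
    rw [← gm_map L (le_top : p.1.1 ≤ ⊤) η hp s]
    exact (congrArg (gm L η hp) (hs p)).trans p.2.2

end CurveDualLib

end
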