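import Groth.Agent.CohCmpLib.OmegaRank
import Groth.Agent.CurvOpenLib.Smooth
import Groth.Agent.FibVALib.Curve
import Groth.Agent.CurveDualLib.Stalks
import Groth.Agent.OmegaAffLib.General
import Groth.Agent.HurwitzLib.SmoothCurve

/-!
# The differentials of a smooth curve, stalkwise
-/

set_option autoImplicit false
set_option linter.style.haveILetI false
set_option linter.unusedSectionVars false
universe u

open CategoryTheory CategoryTheory.Limits AlgebraicGeometry TopologicalSpace Opposite
open DevissLib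

noncomputable section

namespace CurveDualLib

/-- A smooth morphism with integral fibres of dimension one is smooth of relative dimension one. -/
theorem smoothRel_one {X S : Scheme.{u}} (f : X ⟶ S) [Smooth f]
    (hirr : ∀ s : S, IrreducibleSpace ↥(f.fiber s))
    (hdim : ∀ s : S, topologicalKrullDim ↥(f.fiber s) = 1) : SmoothOfRelativeDimension 1 f := by
  refine (CurvOpenLib.smoothOfRelativeDimension_iff_forall 1 f).2 ⟨inferInstance, fun x => ?_⟩
  haveI := hirr (f x)
  haveI : LocallyOfFiniteType (f.fiberToSpecResidueField (f x)) :=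
    MorphismProperty.pullback_snd _ _ inferInstance
  exact (FibDimLib.localDim_of_irreducible (k := S.residueField (f x)) (f.fiberToSpecResidueField (f x)) _).trans
    (hdim (f x))

/-- The differentials of a smooth family of curves are invertible. -/
theorem isInvertible_omega {X S : Scheme.{u}} (f : X ⟶ S) [Smooth f] [QuasiSeparated f]
    (hirr : ∀ s : S, IrreducibleSpace ↥(f.fiber s))
    (hdim : ∀ s : S, topologicalKrullDim ↥(f.fiber s) = 1) : PicF.IsInvertible (Omega.sheaf f) := by
  haveI := smoothRel_one f hirr hdim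
  exact (CohCmpLib.invertible_iff_rank_one _).2 (CohCmpLib.rank_omega f 1)

section

variable {X Y : Scheme.{u}} {f : X ⟶ Y} {F : X.Modules} (D : OmegaSh.Der f F)

theorem der_germ_congr {x : X} {U V : X.Opens} (hU : x ∈ U) (hV : x ∈ V) (r : Γ(X, U)) (r' : Γ(X, V))
    (h : X.presheaf.germ U x hU r = X.presheaf.germ V x hV r') : gm F x hU (D.app U r) = gm F x hV (D.app V r') := by
  obtain ⟨W, hW, i, j, he⟩ := TopCat.Presheaf.germ_eq X.presheaf x hU hV r r' h
  have e : D.app W (X.presheaf.map i.op r) = D.app W (X.presheaf.map j.op r') := congrArg (D.app W) he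
  rw [show i = homOfLE (leOfHom i) from rfl, show j = homOfLE (leOfHom j) from rfl, OmegaAffLib.der_rs,
    OmegaAffLib.der_rs] at e
  rw [← gm_map F (leOfHom i) x hW (D.app U r), ← gm_map F (leOfHom j) x hW (D.app V r')]
  exact congrArg (gm F x hW) e

/-- A derivation on stalks. -/
def dSt (x : X) (a : X.presheaf.stalk x) : (St x).obj F :=
  let h := TopCat.Presheaf.exists_germ_eq X.presheaf (x := x) a
  gm F x h.choose_spec.choose (D.app h.choose h.choose_spec.choose_spec.choose)

theorem dSt_germ {x : X} {U : X.Opens} (hU : x ∈ U) (r : Γ(X, U)) :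
    dSt D x (X.presheaf.germ U x hU r) = gm F x hU (D.app U r) :=
  let h := TopCat.Presheaf.exists_germ_eq X.presheaf (x := x) (X.presheaf.germ U x hU r)
  der_germ_congr D _ hU _ r h.choose_spec.choose_spec.choose_spec

theorem dSt_add (x : X) (a b : X.presheaf.stalk x) : dSt D x (a + b) = dSt D x a + dSt D x b := by
  obtain ⟨U, hU, r, rfl⟩ := TopCat.Presheaf.exists_germ_eq X.presheaf (x := x) a
  obtain ⟨V, hV, r', rfl⟩ := TopCat.Presheaf.exists_germ_eq X.presheaf (x := x) b
  rw [← TopCat.Presheaf.germ_res_apply X.presheaf (homOfLE (inf_le_left : U ⊓ V ≤ U)) x ⟨hU, hV⟩ r,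
    ← TopCat.Presheaf.germ_res_apply X.presheaf (homOfLE (inf_le_right : U ⊓ V ≤ V)) x ⟨hU, hV⟩ r',
    ← map_add, dSt_germ, dSt_germ, dSt_germ, map_add]
  exact map_add (F.presheaf.germ (U ⊓ V) x ⟨hU, hV⟩).hom _ _

theorem dSt_mul (x : X) (a b : X.presheaf.stalk x) : dSt D x (a * b) = a • dSt D x b + b • dSt D x a := by
  obtain ⟨U, hU, r, rfl⟩ := TopCat.Presheaf.exists_germ_eq X.presheaf (x := x) a
  obtain ⟨V, hV, r', rfl⟩ := TopCat.Presheaf.exists_germ_eq X.presheaf (x := x) b
  rw [← TopCat.Presheaf.germ_res_apply X.presheaf (homOfLE (inf_le_left : U ⊓ V ≤ U)) x ⟨hU, hV⟩ r,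
    ← TopCat.Presheaf.germ_res_apply X.presheaf (homOfLE (inf_le_right : U ⊓ V ≤ V)) x ⟨hU, hV⟩ r',
    ← map_mul, dSt_germ, dSt_germ, dSt_germ, OmegaAffLib.der_mul, ← gm_smul, ← gm_smul]
  exact map_add (F.presheaf.germ (U ⊓ V) x ⟨hU, hV⟩).hom _ _

theorem sp_dSt [IsIntegral X] (x : X) (a : X.presheaf.stalk x) :
    sp F x (dSt D x a) = dSt D (genericPoint X) (toFF x a) := by
  obtain ⟨U, hU, r, rfl⟩ := TopCat.Presheaf.exists_germ_eq X.presheaf (x := x) a
  rw [dSt_germ, sp_gm, toFF_germ]
  exact (dSt_germ D (mem_of_nonempty hU) r).symm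

end

variable {k : Type u} [Field k] {X : Scheme.{u}} [X.Over (Spec (CommRingCat.of k))]

theorem dSt_const {F : X.Modules} (D : OmegaSh.Der (X ↘ Spec (CommRingCat.of k)) F) (x : X) (c : k) :
    dSt D x (Curv2.stalkMap k X x c) = 0 := by
  let p := X ↘ Spec (CommRingCat.of k)
  have hle : (⊤ : X.Opens) ≤ p ⁻¹ᵁ ⊤ := le_rfl
  have e : Curv2.stalkMap k X x c = X.presheaf.germ ⊤ x trivial
      (p.appLE ⊤ ⊤ hle ((Scheme.ΓSpecIso (CommRingCat.of k)).inv c)) := by
    rw [Scheme.Hom.appLE, CommRingCat.comp_apply, TopCat.Presheaf.germ_res_apply]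
    rfl
  rw [e, dSt_germ, OmegaAffLib.der_appLE]
  exact gm_zero F x _

/-- The derivation of a stalk. -/
def derSt {F : X.Modules} (D : OmegaSh.Der (X ↘ Spec (CommRingCat.of k)) F) (x : X) :
    letI : Algebra k (X.presheaf.stalk x) := Curv2.stalkAlgebra k X x
    letI : Module k ((St x).obj F) := Module.compHom _ (algebraMap k (X.presheaf.stalk x))
    haveI : IsScalarTower k (X.presheaf.stalk x) ((St x).obj F) := IsScalarTower.of_algebraMap_smul fun _ _ => rfl
    Derivation k (X.presheaf.stalk x) ((St x).obj F) :=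
  letI : Algebra k (X.presheaf.stalk x) := Curv2.stalkAlgebra k X x
  letI : Module k ((St x).obj F) := Module.compHom _ (algebraMap k (X.presheaf.stalk x))
  haveI : IsScalarTower k (X.presheaf.stalk x) ((St x).obj F) := IsScalarTower.of_algebraMap_smul fun _ _ => rfl
  Derivation.mk'
    { toFun := dSt D x
      map_add' := dSt_add D x
      map_smul' := fun c a => by
        rw [Algebra.smul_def, dSt_mul, show algebraMap k (X.presheaf.stalk x) c = Curv2.stalkMap k X x c from rfl,
          dSt_const, smul_zero, add_zero]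
        rfl }
    (fun a b => dSt_mul D x a b)

variable [Smooth (X ↘ Spec (CommRingCat.of k))] [IsIntegral X]

/-- At a closed point of a smooth curve the differential of a suitable function generates. -/
theorem exists_isGen_dSt (hdim : topologicalKrullDim X = 1) {x : X} (hx : IsClosed ({x} : Set X))
    [QuasiSeparated (X ↘ Spec (CommRingCat.of k))]
    (hinv : PicF.IsInvertible (Omega.sheaf (X ↘ Spec (CommRingCat.of k)))) :
    ∃ T : X.presheaf.stalk x,
      IsGen (Omega.sheaf (X ↘ Spec (CommRingCat.of k))) x (dSt (OmegaSh.dOmega (X ↘ Spec (CommRingCat.of k))) x T) ∧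
      ∀ a : X.presheaf.stalk x, ∃ c : X.presheaf.stalk x, dSt (OmegaSh.dOmega (X ↘ Spec (CommRingCat.of k))) x a =
        c • dSt (OmegaSh.dOmega (X ↘ Spec (CommRingCat.of k))) x T := by
  let p := X ↘ Spec (CommRingCat.of k)
  let d := OmegaSh.dOmega p
  letI : Algebra k (X.presheaf.stalk x) := Curv2.stalkAlgebra k X x
  letI : Module k ((St x).obj (Omega.sheaf p)) := Module.compHom _ (algebraMap k (X.presheaf.stalk x))
  haveI : IsScalarTower k (X.presheaf.stalk x) ((St x).obj (Omega.sheaf p)) :=
    IsScalarTower.of_algebraMap_smul fun _ _ => rfl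
  obtain ⟨-, -, -, T, hT⟩ := HurwitzLib.exists_smooth_data (k := k) hdim hx
  let δ := derSt d x
  have hmul : ∀ a : X.presheaf.stalk x, ∃ c : X.presheaf.stalk x, dSt d x a = c • dSt d x T := fun a => by
    obtain ⟨c, hc⟩ := Submodule.mem_span_singleton.1 (hT.ge (Submodule.mem_top :
      KaehlerDifferential.D k (X.presheaf.stalk x) a ∈ ⊤))
    refine ⟨c, ?_⟩
    have := congrArg δ.liftKaehlerDifferential hc
    rw [map_smul, Derivation.liftKaehlerDifferential_comp_D, Derivation.liftKaehlerDifferential_comp_D] at this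
    exact this.symm
  obtain ⟨b, hb⟩ := exists_gen hinv x
  have hspan : ∀ m : (St x).obj (Omega.sheaf p), ∃ c : X.presheaf.stalk x, m = c • dSt d x T := by
    intro m
    obtain ⟨W, hW, s, rfl⟩ := exists_gm_eq _ x m
    obtain ⟨U, hU, hxU, hUW⟩ := OmegaAffLib.exists_good (f := p) hW
    rw [← gm_map _ hUW x hxU s]
    have hs : (Omega.sheaf p).presheaf.map (homOfLE hUW).op s ∈
        Submodule.span Γ(X, U) (Set.range (OmegaSh.dSect p U)) := by rw [OmegaAffLib.span_dSect hU]; trivial
    revert hs
    generalize (Omega.sheaf p).presheaf.map (homOfLE hUW).op s = t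
    intro ht
    induction ht using Submodule.span_induction with
    | mem y hy =>
      obtain ⟨r, rfl⟩ := hy
      obtain ⟨c, hc⟩ := hmul (X.presheaf.germ U x hxU r)
      exact ⟨c, (dSt_germ d hxU r).symm.trans hc⟩
    | zero => exact ⟨0, (gm_zero _ x hxU).trans (zero_smul _ _).symm⟩
    | add y z _ _ hy hz =>
      obtain ⟨c, hc⟩ := hy
      obtain ⟨e, he⟩ := hz
      exact ⟨c + e, (map_add ((Omega.sheaf p).presheaf.germ U x hxU).hom y z).trans
        ((congr_arg₂ (· + ·) hc he).trans (add_smul c e _).symm)⟩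
    | smul a y _ hy =>
      obtain ⟨c, hc⟩ := hy
      exact ⟨X.presheaf.germ U x hxU a * c, by rw [gm_smul, hc, smul_smul]⟩
  obtain ⟨c, hc⟩ := hspan b
  obtain ⟨e, he⟩ := hb.2 (dSt d x T)
  have hu : IsUnit e := IsUnit.of_mul_eq_one_right c (hb.1 (by
    simp only at he ⊢
    rw [mul_smul, he, ← hc, one_smul]))
  refine ⟨T, ?_, hmul⟩
  simp only at he
  rw [← he]
  exact isGen_unit_smul hb hu

/-- The fibres of a morphism with geometrically integral fibres are irreducible. -/
theorem irreducible_fibre {X S : Scheme.{u}} (f : X ⟶ S) [GeometricallyIntegral f] (s : S) :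
    IrreducibleSpace ↥(f.fiber s) := by
  haveI : GeometricallyIntegral (f.fiberToSpecResidueField s) :=
    MorphismProperty.pullback_snd _ _ inferInstance
  haveI : IsIntegral (f.fiber s) :=
    GeometricallyIntegral.isIntegral_of_subsingleton (f.fiberToSpecResidueField s)
  infer_instance

end CurveDualLib

end
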