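import Groth.Agent.CurveDualLib.Div
import Groth.Agent.DetDegLib.Euler
import Groth.Agent.HurwitzLib.Fiber

/-!
# Orders and residue fields at closed points over an algebraically closed field
-/

set_option autoImplicit false
set_option linter.style.haveILetI false
set_option linter.unusedSectionVars false
universe u

open CategoryTheory CategoryTheory.Limits AlgebraicGeometry TopologicalSpace Opposite
open DevissLib WithZero IsLocalRing

noncomputable section

namespace CurveDualLib

variable {k : Type u} [Field k] {X : Scheme.{u}} [X.Over (Spec (CommRingCat.of k))] [IsIntegral X]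
  [Smooth (X ↘ Spec (CommRingCat.of k))] (hdim : topologicalKrullDim X = 1)

attribute [local instance] algFF

/-- The order at a closed point of a function regular there is its colength. -/
theorem ord_toFF {x : X} (hx : IsClosed ({x} : Set X)) {a : X.presheaf.stalk x} (ha : a ≠ 0) :
    (ptPlace (k := k) hdim hx).ord (toFF x a) = ((Ring.ord (X.presheaf.stalk x) a).toNat : ℤ) := by
  haveI := HurwitzLib.dvr_stalk_closed (k := k) hdim hx
  obtain ⟨ϖ, hϖ⟩ := IsDiscreteValuationRing.exists_irreducible (X.presheaf.stalk x)
  obtain ⟨n, u, rfl⟩ := IsDiscreteValuationRing.eq_unit_mul_pow_irreducible ha hϖ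
  have h1 : Ring.ord (X.presheaf.stalk x) ϖ = 1 := by
    rw [Ring.ord, ← hϖ.maximalIdeal_eq]
    haveI : IsSimpleModule (X.presheaf.stalk x) (X.presheaf.stalk x ⧸ maximalIdeal (X.presheaf.stalk x)) :=
      isSimpleModule_iff_isCoatom.2 (maximalIdeal.isMaximal _).out
    exact Module.length_eq_one _ _
  rw [Ring.ord_mul_of_isUnit_left u.isUnit, Ring.ord_pow (mem_nonZeroDivisors_iff_ne_zero.2 hϖ.ne_zero), h1,
    map_mul, map_pow, Groth.Agent.FFLib.ord_mul _ (u.isUnit.map (toFF x)).ne_zero
      (pow_ne_zero _ fun h => hϖ.ne_zero (toFF_injective x (h.trans (map_zero _).symm))),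
    Groth.Agent.FFLib.ord_pow, ord_toFF_unit hdim hx u.isUnit, FunFld.Place.ord, ptPlace_val,
    ptVal_uniformizer hdim hx hϖ, log_exp]
  simp

/-- Over an algebraically closed field the residue degree of a closed point is one. -/
theorem resDeg_eq_one [IsAlgClosed k] {x : X} (hx : IsClosed ({x} : Set X)) :
    letI : Algebra k (X.presheaf.stalk x) := Curv2.stalkAlgebra k X x
    DetDegLib.resDeg k (X.presheaf.stalk x) = 1 := by
  letI : Algebra k (X.presheaf.stalk x) := Curv2.stalkAlgebra k X x
  letI := Curv2.resAlgebra k X x
  haveI := HurwitzLib.finite_residueField (k := k) hx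
  have hb : Function.Bijective (algebraMap k (X.residueField x)) := IsAlgClosed.algebraMap_bijective_of_isIntegral
  unfold DetDegLib.resDeg
  have e : (X.presheaf.stalk x ⧸ maximalIdeal (X.presheaf.stalk x)) ≃ₗ[k] k :=
    ((LinearEquiv.ofBijective (Algebra.linearMap k (X.residueField x)) hb).trans
      { (RingEquiv.refl (X.residueField x)).toAddEquiv with map_smul' := fun _ _ => rfl }).symm
  rw [e.length_eq, Module.length_eq_one_iff]
  infer_instance

end CurveDualLib

end
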