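import Groth.Agent.S4441
import Groth.Agent.CurveAmpLib.FiniteSet
import Groth.Agent.CurvLib.Line
import Groth.Agent.CurveFFLib.Main
import Groth.Agent.CurveFFLib.GenEtale
import Groth.Agent.HurwitzLib.SmoothCurve
import Groth.Agent.FFLib.Basic
import Groth.Prelude.Def_W4bk4goldsch23FF
import Mathlib.RingTheory.Valuation.Discrete.IsDiscreteValuationRing

/-!
# The places of the function field of a smooth proper curve are its closed points
-/

set_option autoImplicit false
set_option linter.style.haveILetI false
set_option linter.unusedSectionVars false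
universe u

open CategoryTheory CategoryTheory.Limits AlgebraicGeometry TopologicalSpace
open WithZero IsLocalRing
open scoped IntermediateField

noncomputable section

namespace CurveDualLib

variable (k : Type u) [Field k] (X : Scheme.{u}) [X.Over (Spec (CommRingCat.of k))] [IsIntegral X]

/-- The function field as an algebra over the ground field. -/
@[reducible] def algFF : Algebra k X.functionField := Curv2.stalkAlgebra k X (genericPoint X)

attribute [local instance] algFF

variable {k X}

theorem algebraMap_stalk (x : X) (c : k) :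
    algebraMap (X.presheaf.stalk x) X.functionField (Curv2.stalkMap k X x c) = algebraMap k X.functionField c :=
  TopCat.Presheaf.germ_stalkSpecializes_apply X.presheaf (U := ⊤) trivial
    ((genericPoint_spec X).specializes trivial) _

theorem isFunctionField [IsAlgClosed k] [Smooth (X ↘ Spec (CommRingCat.of k))]
    (hdim : topologicalKrullDim X = 1) : FunFld.IsFunctionField k X.functionField := by
  obtain ⟨t, ht⟩ := CurveFFLib.exists_separating (k := k) hdim
  haveI := ht
  obtain ⟨s, hs, hs'⟩ := CurveFFLib.trdeg_functionField (k := k) (X := X)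
  obtain rfl : s = 1 := by
    rw [hdim] at hs
    exact_mod_cast hs.symm
  haveI : Algebra.EssFiniteType k X.functionField := by
    haveI : JacobsonSpace X := LocallyOfFiniteType.jacobsonSpace (X ↘ Spec (CommRingCat.of k))
    obtain ⟨x, -, hx⟩ := nonempty_inter_closedPoints (X := X) (Z := Set.univ) Set.univ_nonempty
      isClosed_univ.isLocallyClosed
    rw [mem_closedPoints_iff] at hx
    letI : Algebra k (X.presheaf.stalk x) := Curv2.stalkAlgebra k X x
    haveI := (HurwitzLib.exists_smooth_data (k := k) hdim hx).1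
    haveI : IsScalarTower k (X.presheaf.stalk x) X.functionField :=
      IsScalarTower.of_algebraMap_eq fun c => (algebraMap_stalk x c).symm
    haveI : Algebra.EssFiniteType (X.presheaf.stalk x) X.functionField :=
      Algebra.EssFiniteType.of_isLocalization _ (nonZeroDivisors (X.presheaf.stalk x))
    exact Algebra.EssFiniteType.comp k (X.presheaf.stalk x) _
  have htr : Transcendental k t := by
    intro hta
    haveI : Algebra.IsAlgebraic k k⟮t⟯ := IntermediateField.isAlgebraic_adjoin_simple hta.isIntegral
    haveI : Algebra.IsAlgebraic k X.functionField := Algebra.IsAlgebraic.trans k k⟮t⟯ _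
    rw [trdeg_eq_zero] at hs'
    simp at hs'
  refine ⟨⟨t, htr, ?_⟩, fun y hy => ?_⟩
  · haveI hess : Algebra.EssFiniteType k⟮t⟯ X.functionField := Algebra.EssFiniteType.of_comp k _ _
    haveI : Algebra.IsAlgebraic k⟮t⟯ X.functionField := inferInstance
    obtain ⟨S, hS⟩ := (IntermediateField.fg_top_iff.2 hess : (⊤ : IntermediateField k⟮t⟯ X.functionField).FG)
    haveI : FiniteDimensional k⟮t⟯ (IntermediateField.adjoin k⟮t⟯ (S : Set X.functionField)) :=
      IntermediateField.finiteDimensional_adjoin fun x _ => (Algebra.IsAlgebraic.isAlgebraic x).isIntegral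
    exact Module.Finite.of_surjective (IntermediateField.adjoin k⟮t⟯
      (S : Set X.functionField)).val.toLinearMap fun x => ⟨⟨x, hS ▸ IntermediateField.mem_top⟩, rfl⟩
  · have hi := hy.isIntegral
    have hdeg := IsAlgClosed.degree_eq_one_of_irreducible k (minpoly.irreducible hi)
    exact minpoly.mem_range_of_degree_eq_one k y hdeg

include k in
/-- A point of a curve which is not generic is closed. -/
theorem isClosed_of_ne_generic [LocallyOfFiniteType (X ↘ Spec (CommRingCat.of k))]
    [QuasiCompact (X ↘ Spec (CommRingCat.of k))] (hdim : topologicalKrullDim X = 1) {x : X}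
    (hx : x ≠ genericPoint X) : IsClosed ({x} : Set X) := by
  haveI : IsLocallyNoetherian X := LocallyOfFiniteType.isLocallyNoetherian (X ↘ Spec (CommRingCat.of k))
  haveI : CompactSpace X := QuasiCompact.compactSpace_of_compactSpace (X ↘ Spec (CommRingCat.of k))
  haveI : IsNoetherian X := { }
  have hne : closure ({x} : Set X) ≠ Set.univ := fun h => hx
    ((show IsGenericPoint x (Set.univ : Set X) from h).eq (genericPoint_spec X))
  exact (CurvLib.finite_isClosed_of_dim_le_zero isClosed_closure
    (CurvLib.topologicalKrullDim_le_zero_of_lt hdim isClosed_closure hne)).2 x (subset_closure rfl)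

variable [Smooth (X ↘ Spec (CommRingCat.of k))] (hdim : topologicalKrullDim X = 1)
variable {x : X} (hx : IsClosed ({x} : Set X))

/-- The valuation of a closed point. -/
def ptVal : Valuation X.functionField (WithZero (Multiplicative ℤ)) :=
  haveI := HurwitzLib.dvr_stalk_closed (k := k) hdim hx
  (IsDiscreteValuationRing.maximalIdeal (X.presheaf.stalk x)).valuation X.functionField

theorem ptVal_le_one_iff (a : X.functionField) :
    ptVal (k := k) hdim hx a ≤ 1 ↔ ∃ b : X.presheaf.stalk x, algebraMap (X.presheaf.stalk x) X.functionField b = a := by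
  haveI := HurwitzLib.dvr_stalk_closed (k := k) hdim hx
  refine ⟨fun h => IsDiscreteValuationRing.exists_lift_of_le_one h, ?_⟩
  rintro ⟨b, rfl⟩
  exact IsDedekindDomain.HeightOneSpectrum.valuation_le_one _ b

theorem ptVal_lt_one_iff (b : X.presheaf.stalk x) :
    ptVal (k := k) hdim hx (algebraMap (X.presheaf.stalk x) X.functionField b) < 1 ↔
      b ∈ maximalIdeal (X.presheaf.stalk x) := by
  haveI := HurwitzLib.dvr_stalk_closed (k := k) hdim hx
  exact IsDedekindDomain.HeightOneSpectrum.valuation_lt_one_iff_mem _ b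

theorem ptVal_uniformizer {ϖ : X.presheaf.stalk x} (hϖ : Irreducible ϖ) :
    ptVal (k := k) hdim hx (algebraMap (X.presheaf.stalk x) X.functionField ϖ) = exp (-1 : ℤ) := by
  haveI := HurwitzLib.dvr_stalk_closed (k := k) hdim hx
  refine (IsDedekindDomain.HeightOneSpectrum.valuation_of_algebraMap _ ϖ).trans ?_
  exact IsDedekindDomain.HeightOneSpectrum.intValuation_singleton _ hϖ.ne_zero hϖ.maximalIdeal_eq

theorem ptVal_surjective : Function.Surjective (ptVal (k := k) hdim hx) := by
  haveI := HurwitzLib.dvr_stalk_closed (k := k) hdim hx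
  obtain ⟨ϖ, hϖ⟩ := IsDiscreteValuationRing.exists_irreducible (X.presheaf.stalk x)
  intro g
  rcases eq_or_ne g 0 with rfl | hg
  · exact ⟨0, map_zero _⟩
  · refine ⟨(algebraMap (X.presheaf.stalk x) X.functionField ϖ) ^ (-WithZero.log g), ?_⟩
    rw [map_zpow₀, ptVal_uniformizer hdim hx hϖ, ← WithZero.exp_zsmul, smul_eq_mul,
      show -log g * -1 = log g by ring, WithZero.exp_log hg]

/-- The place of a closed point. -/
def ptPlace : FunFld.Place k X.functionField :=
  ⟨ptVal (k := k) hdim hx, fun c => (ptVal_le_one_iff hdim hx _).2 ⟨_, algebraMap_stalk x c⟩,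
    ptVal_surjective hdim hx⟩

theorem ptPlace_val : (ptPlace (k := k) hdim hx).1 = ptVal (k := k) hdim hx := rfl

variable [IsProper (X ↘ Spec (CommRingCat.of k))]

include hdim in
/-- Every place is the place of a closed point. -/
theorem exists_point (P : FunFld.Place k X.functionField) :
    ∃ (x : X) (hx : IsClosed ({x} : Set X)), ptPlace (k := k) hdim hx = P := by
  let f := X ↘ Spec (CommRingCat.of k)
  haveI : (Spec (CommRingCat.of k)).IsSeparated := inferInstance
  haveI : X.IsSeparated := ⟨by rw [← terminal.comp_from f]; infer_instance⟩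
  haveI : IsIntegral (Spec (CommRingCat.of k)) := inferInstance
  haveI : IsDominant f := ⟨Function.Surjective.denseRange fun y => ⟨genericPoint X,
    Subsingleton.elim (α := PrimeSpectrum k) _ _⟩⟩
  haveI : Subsingleton ↥(Spec (CommRingCat.of k)) := inferInstanceAs (Subsingleton (PrimeSpectrum k))
  have hsurj : ∀ a : (Spec (CommRingCat.of k)).presheaf.stalk (f (genericPoint X)), ∃ c : k,
      (Spec (CommRingCat.of k)).presheaf.germ ⊤ (f (genericPoint X)) trivial
        ((Scheme.ΓSpecIso (CommRingCat.of k)).inv c) = a := by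
    intro a
    obtain ⟨U, hU, s, rfl⟩ := TopCat.Presheaf.exists_germ_eq _ a
    obtain rfl : U = ⊤ := eq_top_iff.2 fun y _ => (Subsingleton.elim (f (genericPoint X)) y) ▸ hU
    exact ⟨(Scheme.ΓSpecIso (CommRingCat.of k)).hom s,
      congrArg _ ((Scheme.ΓSpecIso (CommRingCat.of k)).hom_inv_id_apply s)⟩
  have hmap : ∀ c : k, f.stalkMap (genericPoint X) ((Spec (CommRingCat.of k)).presheaf.germ ⊤ (f (genericPoint X))
      trivial ((Scheme.ΓSpecIso (CommRingCat.of k)).inv c)) = algebraMap k X.functionField c := fun c =>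
    (Scheme.Hom.germ_stalkMap_apply f ⊤ (genericPoint X) trivial _).trans rfl
  obtain ⟨x, hxR, hxm⟩ := Groth.Agent.S4441.result f P.O (f (genericPoint X)) specializes_rfl ⟨fun a => by
    obtain ⟨c, rfl⟩ := hsurj a
    rw [TopCat.Presheaf.stalkSpecializes_refl, Category.id_comp]
    exact (congrArg (· ∈ P.O) (hmap c)).mpr (P.2.1 c), fun a ha => by
    obtain ⟨c, rfl⟩ := hsurj a
    obtain rfl : c = 0 := by
      by_contra hc
      exact (mem_maximalIdeal _).1 ha (((Ne.isUnit hc).map
        (Scheme.ΓSpecIso (CommRingCat.of k)).inv.hom).map ((Spec (CommRingCat.of k)).presheaf.germ ⊤ (f (genericPoint X)) trivial).hom)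
    simp⟩
  have hxη : x ≠ genericPoint X := by
    rintro rfl
    obtain ⟨a, ha⟩ := P.2.2 (exp (1 : ℤ))
    have : a ∈ P.O := by
      have h := hxR a
      have e : (X.presheaf.stalkSpecializes ((genericPoint_spec X).specializes trivial) :
          X.presheaf.stalk (genericPoint X) ⟶ X.presheaf.stalk (genericPoint X)) = 𝟙 _ :=
        TopCat.Presheaf.stalkSpecializes_refl X.presheaf (genericPoint X)
      exact (congrArg (fun φ => φ a ∈ P.O) e).mp h
    have h1 : P.1 a ≤ 1 := this
    rw [ha, ← exp_zero, exp_le_exp] at h1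
    omega
  have hx : IsClosed ({x} : Set X) := by
    exact isClosed_of_ne_generic (k := k) hdim hxη
  refine ⟨x, hx, ?_⟩
  refine Subtype.ext ?_
  rw [ptPlace_val]
  refine (Groth.Agent.FFLib.place_ext_of_le (ptPlace (k := k) hdim hx) P fun y hy => ?_) ▸ rfl
  obtain ⟨b, rfl⟩ := (ptVal_le_one_iff (k := k) hdim hx y).1 hy
  exact hxR b

/-- Different closed points give different places. -/
theorem ptPlace_injective {x' : X} (hx' : IsClosed ({x'} : Set X))
    (h : ptPlace (k := k) hdim hx = ptPlace hdim hx') : x = x' := by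
  haveI : IsLocallyNoetherian X := LocallyOfFiniteType.isLocallyNoetherian (X ↘ Spec (CommRingCat.of k))
  haveI : X.IsSeparated := ⟨by rw [← terminal.comp_from (X ↘ Spec (CommRingCat.of k))]; infer_instance⟩
  haveI : IsNoetherian X := CurvLib.isNoetherian k
  obtain ⟨U, (hU : IsAffineOpen U), hTU⟩ := CurveAmpLib.exists_affine_of_finite_integral hdim.le {x, x'}
    ((Set.finite_singleton x').insert x)
  have hxU : x ∈ U := hTU (Or.inl rfl)
  have hx'U : x' ∈ U := hTU (Or.inr rfl)
  have hv : ∀ (z : X) (hz : IsClosed ({z} : Set X)) (hzU : z ∈ U) (a : Γ(X, U)),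
      ptVal (k := k) hdim hz (algebraMap (X.presheaf.stalk z) X.functionField (X.presheaf.germ U z hzU a)) < 1 ↔
        a ∈ (hU.primeIdealOf ⟨z, hzU⟩).asIdeal := fun z hz hzU a => by
    letI := X.presheaf.algebra_section_stalk (⟨z, hzU⟩ : U)
    haveI := IsAffineOpen.isLocalization_stalk hU ⟨z, hzU⟩
    rw [ptVal_lt_one_iff, mem_maximalIdeal, mem_nonunits_iff]
    refine (not_congr (IsLocalization.AtPrime.isUnit_to_map_iff (X.presheaf.stalk z)
      (hU.primeIdealOf ⟨z, hzU⟩).asIdeal a)).trans ?_
    exact Classical.not_not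
  have hgerm : ∀ (z : X) (hzU : z ∈ U) (a : Γ(X, U)),
      algebraMap (X.presheaf.stalk z) X.functionField (X.presheaf.germ U z hzU a) =
        X.presheaf.germ U (genericPoint X) (((genericPoint_spec X).mem_open_set_iff U.isOpen).mpr
          ⟨x, trivial, hxU⟩) a := fun z hzU a =>
    TopCat.Presheaf.germ_stalkSpecializes_apply X.presheaf hzU _ a
  have hp : hU.primeIdealOf ⟨x, hxU⟩ = hU.primeIdealOf ⟨x', hx'U⟩ := PrimeSpectrum.ext (Ideal.ext fun a => by
    rw [← hv x hx hxU, ← hv x' hx' hx'U, hgerm x hxU, hgerm x' hx'U, ← ptPlace_val hdim hx,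
      ← ptPlace_val hdim hx', h])
  exact (IsAffineOpen.fromSpec_primeIdealOf hU ⟨x, hxU⟩).symm.trans
    ((congrArg hU.fromSpec hp).trans (IsAffineOpen.fromSpec_primeIdealOf hU ⟨x', hx'U⟩))

end CurveDualLib

end
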