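import Groth.Agent.LinSysLib.AmpleProj

/-!
# Locally very ample with finite type direct image gives projective
-/

set_option autoImplicit false
universe u

open CategoryTheory CategoryTheory.Limits AlgebraicGeometry TopologicalSpace Opposite
open ChowLib RelProjLib AmpleLib AmpleThLib
open TwistLib (genSet)

noncomputable section

namespace CurveDualLib

variable {X Y : Scheme.{u}}

/-- The coordinate sections of a closed immersion into projective space over an affine base. -/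
theorem pn_data [IsAffine Y] (q : X ⟶ Y) [IsProper q] {M : X.Modules} (hM : PicF.IsInvertible M)
    (h : RelAmple.IsRelVeryAmplePn q M) :
    ∃ (m : ℕ) (v : Fin (m + 1) → Γ(M, ⊤)),
      (∀ x : X, ∃ k, x ∈ genSet hM (v k)) ∧ (∀ k, IsAffineOpen (genSet hM (v k))) ∧
      ∀ k, Subring.closure (Set.range (q.appLE ⊤ (genSet hM (v k)) le_top) ∪
        {c | ∃ l, c • res M (le_top : genSet hM (v k) ≤ ⊤) (v k) = res M le_top (v l)}) = ⊤ := by
  classical
  obtain ⟨n, i, hi, hiq, ⟨φ⟩⟩ := h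
  haveI := hi
  haveI : IsProper (i ≫ CohB1.ProjSpaceOver.toBase n Y) := hiq.symm ▸ inferInstance
  haveI : IsSeparated (CohB1.ProjSpaceOver.toBase n Y) := inferInstance
  haveI : IsProper i := IsProper.of_comp i (CohB1.ProjSpaceOver.toBase n Y)
  haveI : IsClosedImmersion i := .of_isPreimmersion i (i.isClosedMap.isClosed_range)
  let r := i ≫ toPZ n Y
  let O1 := Twist.twist (gr.{u} n) ((1 : ℕ) : ℤ)
  let ψ : KFlatLib.pb r O1 ≅ M := ((Scheme.Modules.pullbackComp i (toPZ n Y)).app _).symm ≪≫ φ.symm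
  let glob : Fin (n + 1) → Γ(O1, ⊤) := fun a =>
    Twist.globalOf (gr.{u} n) ⟨MvPolynomial.X a, X_mem a⟩
  let e : ∀ a, Γ(M, r ⁻¹ᵁ Dplus a) := fun a =>
    ψ.hom.app _ (KFlatLib.puSec r (res O1 (le_top : Dplus a ≤ ⊤) (glob a)))
  have he : ∀ a, GenOn M (e a) := fun a => TwistLib.genOn_of_genAt fun x hx =>
    (TwistLib.genAt_app_iso ψ _ hx).mpr
      (TwistLib.GenAt.puSec r ((TwistLib.globalOf_genOn (gr.{u} n) (X_mem a)).genAt hx))
  let τ : Fin (n + 1) → Γ(M, ⊤) := fun j => ψ.hom.app ⊤ (KFlatLib.puSec r (glob j))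
  have hτ : ∀ a j, res M (le_top : r ⁻¹ᵁ Dplus a ≤ ⊤) (τ j) = coord r a j le_rfl • e a := by
    intro a j
    have hc := TwistLib.frac_smul_globalOf (gr.{u} n) (X_mem a) (X_mem j)
    have hfr : TwistLib.frac (gr.{u} n) (X_mem a) (X_mem j) = coordRing a j := rfl
    rw [hfr] at hc
    have h1 := congrArg (fun t => ψ.hom.app (r ⁻¹ᵁ Dplus a) (KFlatLib.puSec r t)) hc
    have e1 := congrArg (ψ.hom.app (r ⁻¹ᵁ Dplus a)) (TwistLib.puSec_smul r (cj a j)
      (res O1 (le_top : Dplus a ≤ ⊤) (glob a)))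
    have h3 := (Scheme.Modules.Hom.app_smul ψ.hom _ _).symm.trans (e1.symm.trans h1)
    rw [coord_eq r a j le_rfl]
    rw [Scheme.Hom.app_eq_appLE] at h3
    refine Eq.trans ?_ h3.symm
    exact ((congrArg (ψ.hom.app (r ⁻¹ᵁ Dplus a)) (TwistLib.puSec_res r le_top (glob j))).trans
      (NatTrans.naturality_apply ψ.hom.mapPresheaf (homOfLE (le_top : r ⁻¹ᵁ Dplus a ≤ ⊤)).op _)).symm
  have hgenset : ∀ k, genSet hM (τ k) = r ⁻¹ᵁ Dplus k := by
    intro k
    ext x
    obtain ⟨b, hb⟩ := Opens.mem_iSup.mp (show x ∈ ⨆ a, r ⁻¹ᵁ Dplus a by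
      rw [← Scheme.Hom.preimage_iSup, iSup_Dplus]; trivial)
    change GenAt M (τ k) (show x ∈ (⊤ : X.Opens) from trivial) ↔ _
    rw [← genAt_res (le_top : r ⁻¹ᵁ Dplus b ≤ ⊤) (τ k) hb, hτ b k,
      genAt_smul_iff _ _ hb ((he b).genAt hb), RelProjLib.basicOpen_coord r b k le_rfl]
    exact ⟨fun h => h.2, fun h => ⟨hb, h⟩⟩
  refine ⟨n, τ, fun x => ?_, fun k => ?_, fun k => ?_⟩
  · obtain ⟨b, hb⟩ := Opens.mem_iSup.mp (show x ∈ ⨆ a, r ⁻¹ᵁ Dplus a by
      rw [← Scheme.Hom.preimage_iSup, iSup_Dplus]; trivial)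
    exact ⟨b, by rw [hgenset]; exact hb⟩
  · rw [hgenset]
    exact (isAffineOpen_Pk Y k).preimage i
  · have hP : piece q r k ⊤ = genSet hM (τ k) := by
      rw [hgenset, piece, Scheme.Hom.preimage_top, inf_top_eq]
    revert hP
    generalize genSet hM (τ k) = G
    intro hP
    subst hP
    refine eq_top_iff.mpr fun c hc => ?_
    clear hc
    obtain ⟨P, rfl⟩ := evalA_surjective q r i hiq rfl k (isAffineOpen_top Y) c
    induction P using MvPolynomial.induction_on with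
    | C a =>
      rw [evalA, MvPolynomial.eval₂Hom_C]
      exact Subring.subset_closure (Or.inl ⟨a, rfl⟩)
    | add p p' hp hp' => rw [map_add]; exact add_mem hp hp'
    | mul_X p l hp =>
      rw [map_mul]
      refine mul_mem hp (Subring.subset_closure (Or.inr ⟨l, ?_⟩))
      rw [evalA, MvPolynomial.eval₂Hom_X']
      have hle : piece q r k ⊤ ≤ r ⁻¹ᵁ Dplus k := inf_le_left
      have h1 := congrArg (res M hle) (hτ k l)
      have h2 := congrArg (res M hle) (hτ k k)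
      rw [res_smul, res_res] at h1 h2
      rw [coord_self r k le_rfl, map_one, one_smul] at h2
      rw [h2, h1]
      congr 1
      exact (RelProjLib.coord_res r k l le_rfl hle).symm

/-- A proper morphism with a module which is very ample over an affine cover of the base and has finite
type direct image is projective. -/
theorem isProjective_of_locally_pn {S : Scheme.{u}} (f : X ⟶ S) [IsProper f] {L : X.Modules}
    (hL : PicF.IsInvertible L) (hft : CohB1.IsFT ((Scheme.Modules.pushforward f).obj L))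
    (h : ∀ s : S, ∃ V : S.Opens, s ∈ V ∧ IsAffineOpen V ∧
      RelAmple.IsRelVeryAmplePn (f ∣_ V) (L.restrict (f ⁻¹ᵁ V).ι)) :
    RelProj.IsProjective f := by
  haveI : Coh.IsQCoh L := TwistLib.isQCoh_of_isInvertible hL
  haveI : Coh.IsQCoh ((Scheme.Modules.pushforward f).obj L) := QCohLib.isQCoh_pushforward f L
  refine LinSysLib.isProjective_of_bundle f (𝟙 ((Scheme.Modules.pushforward f).obj L)) hL hft fun y => ?_
  obtain ⟨V, hyV, hV, hpn⟩ := h (f y)
  let W : S.Opens := V.ι ''ᵁ ⊤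
  have hWV : W = V := Scheme.Opens.ι_image_top V
  haveI : IsAffine (V : Scheme.{u}) := hV
  let jX := (f ⁻¹ᵁ V).ι
  obtain ⟨m, v, hcov, haff, hgen⟩ := pn_data (f ∣_ V) (restrict_isInvertible hL jX) hpn
  obtain ⟨k, hxk⟩ := hcov ⟨y, hyV⟩
  let O' := genSet (restrict_isInvertible hL jX) (v k)
  have hPre : f ⁻¹ᵁ W = jX ''ᵁ ⊤ := by rw [hWV, Scheme.Opens.ι_image_top]
  let g : Fin (m + 1) → Γ((Scheme.Modules.pushforward f).obj L, W) :=
    fun l => res L hPre.le (show Γ(L, jX ''ᵁ ⊤) from v l)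
  have hjg : ∀ l, LinSysLib.jsec f (𝟙 ((Scheme.Modules.pushforward f).obj L)) (g l) = g l := fun l => rfl
  have hO : jX ''ᵁ O' ≤ f ⁻¹ᵁ W := (jX.image_mono le_top).trans hPre.ge
  refine ⟨W, hWV.symm ▸ hV, g k, jX ''ᵁ O', hO, hWV.symm ▸ hyV, ⟨⟨y, hyV⟩, hxk, rfl⟩,
    (haff k).image_of_isOpenImmersion jX, ?_, ?_⟩
  · intro z hz
    have hz' : z ∈ f ⁻¹ᵁ V := by
      rw [hWV] at hz; exact hz
    have h1 : GenAt L (LinSysLib.jsec f (𝟙 _) (g k)) hz ↔
        (⟨z, hz'⟩ : (f ⁻¹ᵁ V : X.Opens).toScheme) ∈ O' := by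
      refine Iff.trans ?_ (MiscFlat6.genAt_restrict_iff hL jX (v k) ⟨z, hz'⟩).symm
      rw [hjg]
      exact genAt_res hPre.le (show Γ(L, jX ''ᵁ ⊤) from v k) hz
    rw [h1]
    constructor
    · exact fun h => ⟨_, h, rfl⟩
    · rintro ⟨w, hw, rfl⟩
      exact hw
  · refine eq_top_iff.mpr ((hgen k).ge.trans (Subring.closure_mono ?_))
    rintro c (⟨a, rfl⟩ | ⟨l, hl⟩)
    · refine Or.inl ⟨a, ?_⟩
      rw [morphismRestrict_appLE]
      rfl
    · refine Or.inr ⟨g l, ?_⟩
      have e1 : ∀ l, res L hO (LinSysLib.jsec f (𝟙 _) (g l)) =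
          res L (jX.image_mono le_top) (show Γ(L, jX ''ᵁ ⊤) from v l) := fun l => by
        rw [hjg]; exact res_res L _ _ _
      rw [e1, e1]
      refine Eq.trans ?_ hl
      change _ = (show Γ(X, jX ''ᵁ O') from (jX.appIso O').inv c) • res L (jX.image_mono le_top)
        (show Γ(L, jX ''ᵁ ⊤) from v k)
      rw [Scheme.Opens.ι_appIso]
      rfl

end CurveDualLib

end
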