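import Groth.Agent.CurveDualLib.Family
import Groth.Agent.CohCmpLib.FibreRowsBC
import Groth.Agent.CohCmpLib.LineBundle

/-!
# Direct images of pluricanonical modules of smooth families of curves
-/

set_option autoImplicit false
set_option linter.style.haveILetI false
set_option linter.unusedSectionVars false
set_option maxRecDepth 8000
universe u

open CategoryTheory CategoryTheory.Limits AlgebraicGeometry

noncomputable section

namespace CurveDualLib

attribute [local instance] fibreOver

/-- Vanishing of the fibre cohomology in degree one gives a free direct image of the fibre rank. -/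
theorem exists_push_free_rank {X S : Scheme.{u}} {f : X ⟶ S} {F : X.Modules} [IsProper f]
    [LocallyOfFinitePresentation f] [Coh.IsQCoh F] (hfp : CohB1.IsFP F) (hfl : FlatMod.IsFlatOver f F) (s : S)
    (h : Subsingleton (CohIII.fiberH f F s 1)) :
    ∃ O : S.Opens, s ∈ O ∧
      Nonempty (((Scheme.Modules.pushforward f).obj F).restrict O.ι ≅
        FlatMod.freeMod (↑O) (CohIII.fiberRank f F 0 s)) := by
  have : HasInjectiveResolutions X.Modules := inferInstance
  obtain ⟨Δ, ⟨E⟩⟩ := CohCmpLib.exists_sectCmp f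
  obtain ⟨W, K, hW, hsW⟩ := CohCmpLib.exists_chart_at hfp hfl s
  obtain ⟨V, hle, -, hV, hsV, a, -, -, -⟩ := K.exists_vanishing_nhd E hW le_rfl 1 hsW h
  obtain ⟨O, hO, e⟩ := K.exists_free_nhd E hV hle 0 (K.flAt_zero hle) a hsV
  exact ⟨O, hO, CohCmpLib.exists_push_free e⟩

variable {X S : Scheme.{u}} (f : X ⟶ S) [IsProper f] [Smooth f] [GeometricallyConnected f]
  (hdim : ∀ s : S, topologicalKrullDim ↥(f.fiber s) = 1)

/-- Fibre cohomology of curves vanishes above degree one. -/
theorem subsingleton_fiberH_ge_two (hdim : ∀ s : S, topologicalKrullDim ↥(f.fiber s) = 1) (F : X.Modules)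
    [Coh.IsQCoh F] (s : S) (i : ℕ) (hi : 2 ≤ i) : Subsingleton (CohIII.fiberH f F s i) := by
  obtain ⟨_, _, _⟩ := fibre_data f s
  haveI := CurvLib.isNoetherian (S.residueField s) (X := f.fiber s)
  haveI : Coh.IsQCoh (CohIII.fiberMod f F s) := KFlatLib.isQCoh_pullback _ F
  exact CurvLib.subsingleton_HH_of_dim_le _ (d := 1) (le_of_eq (hdim s)) i (by omega)

include hdim in
/-- The direct image of a pluricanonical module and its higher direct images. -/
theorem push_omega_pow {g : ℕ} (hg : 2 ≤ g)
    (hgen : ∀ s : S, Curv2.genus (S.residueField s) (f.fiber s) = g) (n : ℕ) (hn : 2 ≤ n) :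
    FlatMod.IsFinLocFreeOfRank ((2 * n - 1) * (g - 1))
        ((Coh.push f).obj (CohB1.tensorPow (Omega.sheaf f) n)) ∧
      ∀ i : ℕ, 1 ≤ i → ∀ [HasInjectiveResolutions X.Modules],
        IsZero ((Coh.Rpush f i).obj (CohB1.tensorPow (Omega.sheaf f) n)) := by
  have hL := AmpleThLib.tensorPow_isInvertible (omega_invertible_family f hdim) n
  obtain ⟨hQ, hfp, hfl⟩ := CohCmpLib.rank_one_hyps f ((CohCmpLib.invertible_iff_rank_one _).1 hL)
  haveI := hQ
  refine ⟨fun s => ?_, fun i hi _ => CohCmpLib.isZero_rpush_of_fibre hfp hfl i fun s => ?_⟩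
  · obtain ⟨O, hO, e⟩ := exists_push_free_rank hfp hfl s (subsingleton_fiberH_omega_pow f hdim hg hgen n hn s)
    obtain ⟨_, _, _⟩ := fibre_data f s
    obtain ⟨i⟩ := nonempty_fibre_omega_pow f s n
    have hr : CohIII.fiberRank f (CohB1.tensorPow (Omega.sheaf f) n) 0 s = (2 * n - 1) * (g - 1) := by
      rw [← hgen s, ← h0_omega_pow (S.residueField s) (f.fiber s) (hdim s) (hgen s ▸ hg) n hn]
      exact (CurvLib.hIso (k := S.residueField s) i 0).finrank_eq
    exact ⟨O, hO, hr ▸ e⟩
  · by_cases h1 : i = 1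
    · subst h1; exact subsingleton_fiberH_omega_pow f hdim hg hgen n hn s
    · exact subsingleton_fiberH_ge_two f hdim _ s i (by omega)

end CurveDualLib

end
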